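import Mathlib

/-!
Numerical bounds for weighted tuples of conjugate-reciprocal polynomials (class numbers of `SU_n(q)`).
-/

set_option autoImplicit false

namespace CfsgLib.SpecUnitary

open Finset

/-- number of conjugate-reciprocal monic polynomials of degree `d` -/
def uPolyCount (q : ℕ) : ℕ → ℕ
  | 0 => 1
  | d + 1 => (q + 1) * q ^ d

/-- `gcd(i, q+1)` -/
def uGcd (q i : ℕ) : ℕ := Nat.gcd i (q + 1)

/-- upper bound for `(q+1)` times the weighted number of tuples of fixed determinant -/
def uWeight (q : ℕ) : ℕ → ℕ → ℕ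
  | 0, _ => 0
  | r + 1, N => ∑ d ∈ range (N / (r + 1) + 1),
      if d = 0 then uWeight q r N
      else uPolyCount q d *
        (if N - (r + 1) * d = 0 then uGcd q (r + 1) ^ 2 else uWeight q r (N - (r + 1) * d))

/-- the excess of `uWeight` over the number of tuples -/
def uExcess (q : ℕ) : ℕ → ℕ → ℕ
  | 0, _ => 0
  | r + 1, N => ∑ d ∈ range (N / (r + 1) + 1),
      if d = 0 then uExcess q r N
      else uPolyCount q d *
        (if N - (r + 1) * d = 0 then uGcd q (r + 1) ^ 2 - 1 else uExcess q r (N - (r + 1) * d))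

/-- tuples with all parts at least `l` -/
def uTail (q l : ℕ) : ℕ → ℕ → ℕ
  | 0, N => if N = 0 then 1 else 0
  | r + 1, N => if r + 1 < l then (if N = 0 then 1 else 0) else
      ∑ d ∈ range (N / (r + 1) + 1), uPolyCount q d * uTail q l r (N - (r + 1) * d)

variable {q : ℕ}

theorem uTail_of_lt {l r : ℕ} (h : r < l) (N : ℕ) :
    uTail q l r N = if N = 0 then 1 else 0 := by
  cases r with
  | zero => rfl
  | succ r => rw [uTail, if_pos h]

theorem uTail_succ {l r : ℕ} (h : l ≤ r + 1) (N : ℕ) :
    uTail q l (r + 1) N =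
      ∑ d ∈ range (N / (r + 1) + 1), uPolyCount q d * uTail q l r (N - (r + 1) * d) := by
  rw [uTail, if_neg (by omega)]

theorem uTail_zero_right (l : ℕ) : ∀ r : ℕ, uTail q l r 0 = 1
  | 0 => rfl
  | r + 1 => by
    rcases Nat.lt_or_ge (r + 1) l with h | h
    · rw [uTail_of_lt h, if_pos rfl]
    · simp [uTail_succ h, uPolyCount, uTail_zero_right l r]

theorem uTail_small {l : ℕ} : ∀ {r N : ℕ}, 1 ≤ N → N < l → uTail q l r N = 0
  | 0, N, h1, _ => by rw [uTail, if_neg (by omega)]
  | r + 1, N, h1, h2 => by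
    rcases Nat.lt_or_ge (r + 1) l with h | h
    · rw [uTail_of_lt h, if_neg (by omega)]
    · rw [uTail_succ h, Nat.div_eq_of_lt (by omega : N < r + 1)]
      simp [uTail_small (r := r) h1 h2]

theorem uTail_step {l : ℕ} (hl : 1 ≤ l) : ∀ {r N : ℕ}, l ≤ N →
    uTail q l r N ≤ uTail q (l + 1) r N + (q + 1) * uTail q l r (N - l) := by
  intro r
  induction r with
  | zero => intro N hN; simp [uTail, show N ≠ 0 by omega]
  | succ r ih =>
    intro N hN
    rcases Nat.lt_or_ge (r + 1) l with h | h
    · simp [uTail_of_lt h, show N ≠ 0 by omega]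
    rcases Nat.eq_or_lt_of_le h with h | h
    · subst h
      rw [uTail_succ le_rfl, uTail_succ le_rfl, Nat.div_eq_sub_div (by omega) hN,
        Finset.sum_range_succ', Finset.mul_sum]
      refine le_trans ?_ (Nat.le_add_left _ _)
      simp only [uTail_of_lt (Nat.lt_succ_self r), mul_zero, Nat.sub_zero,
        show N ≠ 0 by omega, if_false, Nat.add_zero]
      refine Finset.sum_le_sum fun d _ => ?_
      rw [show N - (r + 1) * (d + 1) = N - (r + 1) - (r + 1) * d by
        rw [mul_add, mul_one, Nat.sub_sub, Nat.add_comm], ← mul_assoc]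
      refine Nat.mul_le_mul_right _ ?_
      cases d with
      | zero => simp [uPolyCount]
      | succ d =>
        simp only [uPolyCount, pow_succ, mul_comm _ q]
        exact Nat.mul_le_mul_left _ (Nat.mul_le_mul_right _ (Nat.le_succ q))
    · rw [uTail_succ (by omega), uTail_succ (by omega), uTail_succ (by omega)]
      calc ∑ d ∈ range (N / (r + 1) + 1), uPolyCount q d * uTail q l r (N - (r + 1) * d)
          ≤ ∑ d ∈ range (N / (r + 1) + 1),
              (uPolyCount q d * uTail q (l + 1) r (N - (r + 1) * d) +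
                if l + (r + 1) * d ≤ N then (q + 1) * (uPolyCount q d * uTail q l r (N - l - (r + 1) * d))
                else 0) := by
            refine Finset.sum_le_sum fun d _ => ?_
            split_ifs with hd
            · rw [Nat.sub_right_comm N l, ← mul_assoc (q + 1), mul_comm (q + 1), mul_assoc, ← mul_add]
              exact Nat.mul_le_mul_left _ (ih (by omega))
            · rw [add_zero]
              refine Nat.mul_le_mul_left _ ?_
              rcases Nat.eq_zero_or_pos (N - (r + 1) * d) with h0 | h0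
              · rw [h0, uTail_zero_right, uTail_zero_right]
              · rw [uTail_small h0 (by omega)]; exact Nat.zero_le _
        _ ≤ _ := by
            rw [Finset.sum_add_distrib, Finset.mul_sum, ← Finset.sum_filter]
            refine Nat.add_le_add_left (Finset.sum_le_sum_of_subset ?_) _
            intro d hd
            rw [Finset.mem_filter] at hd
            rw [Finset.mem_range, Nat.lt_succ_iff, Nat.le_div_iff_mul_le (by omega), mul_comm]
            omega

theorem uTail_le_top {r : ℕ} : ∀ (k : ℕ) {l N : ℕ}, N + 1 - l = k → 1 ≤ l → l ≤ N → N < 2 * l →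
    uTail q l r N ≤ q + 1 := by
  intro k
  induction k with
  | zero => intro l N hk; omega
  | succ k ih =>
    intro l N hk hl hlN hN
    refine (uTail_step hl hlN).trans ?_
    rcases Nat.eq_or_lt_of_le hlN with h | h
    · subst h
      rw [uTail_small hl (Nat.lt_succ_self _), Nat.sub_self, uTail_zero_right]
      omega
    · rw [uTail_small (l := l) (N := N - l) (by omega) (by omega), mul_zero, add_zero]
      exact ih (by omega) (by omega) h (by omega)

theorem uTail_le (hq : 2 ≤ q) {r : ℕ} : ∀ (N l : ℕ), 2 ≤ l → (3 ≤ q ∨ 3 ≤ l) → l ≤ N →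
    uTail q l r N ≤ (q + 1) * q ^ (N - l) := by
  intro N
  induction N using Nat.strong_induction_on with
  | _ N ih =>
    intro l hl hcase hlN
    induction hk : N - l generalizing l with
    | zero => simpa using uTail_le_top (q := q) (r := r) _ rfl (by omega) hlN (by omega)
    | succ k ihk =>
      rcases Nat.lt_or_ge N (2 * l) with h2 | h2
      · exact (uTail_le_top (q := q) (r := r) _ rfl (by omega) hlN h2).trans
          (Nat.le_mul_of_pos_right _ (pow_pos (by omega) _))
      have hs := uTail_step (q := q) (r := r) (by omega : 1 ≤ l) hlN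
      have ha := ihk (l + 1) (by omega) (by omega) (by omega) (by omega)
      have hb := ih (N - l) (by omega) l hl hcase (by omega)
      obtain ⟨j, rfl⟩ : ∃ j, l = j + 1 := ⟨l - 1, by omega⟩
      obtain ⟨M, hM⟩ : ∃ M, N = 2 * (j + 1) + M := ⟨N - 2 * (j + 1), by omega⟩
      rw [show N - (j + 1) - (j + 1) = M by omega] at hb
      rw [show k = M + j by omega, pow_add] at ha
      rw [show k + 1 = M + (j + 1) by omega, pow_add]
      have hj : q ^ j + (q + 1) ≤ q ^ (j + 1) := by
        have hbig : q + 1 ≤ q ^ j * (q - 1) := by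
          rcases hcase with h | h
          · calc q + 1 ≤ q * 2 := by omega
              _ ≤ q ^ j * (q - 1) :=
                Nat.mul_le_mul (Nat.le_self_pow (by omega) q) (by omega)
          · calc q + 1 ≤ q ^ 2 * 1 := by nlinarith
              _ ≤ q ^ j * (q - 1) :=
                Nat.mul_le_mul (Nat.pow_le_pow_right (by omega) (by omega)) (by omega)
        rw [pow_succ, show q ^ j * q = q ^ j * (q - 1) + q ^ j by
          rw [← Nat.mul_succ]; congr 1; omega]
        omega
      calc uTail q (j + 1) r N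
          ≤ (q + 1) * (q ^ M * q ^ j) + (q + 1) * ((q + 1) * q ^ M) :=
            hs.trans (Nat.add_le_add ha (Nat.mul_le_mul_left _ hb))
        _ = (q + 1) * (q ^ M * (q ^ j + (q + 1))) := by ring
        _ ≤ _ := Nat.mul_le_mul_left _ (Nat.mul_le_mul_left _ hj)

theorem uGcd_le_left (q : ℕ) {i : ℕ} (hi : 1 ≤ i) : uGcd q i ≤ i :=
  Nat.le_of_dvd hi (Nat.gcd_dvd_left _ _)

theorem uGcd_le_right (q i : ℕ) : uGcd q i ≤ q + 1 :=
  Nat.le_of_dvd (by omega) (Nat.gcd_dvd_right _ _)

theorem uGcd_pos {i : ℕ} (hi : 1 ≤ i) : 1 ≤ uGcd q i :=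
  Nat.gcd_pos_of_pos_left _ hi

theorem uWeight_eq : ∀ (r N : ℕ), 1 ≤ N → uWeight q r N = uTail q 1 r N + uExcess q r N
  | 0, N, hN => by simp [uWeight, uTail, uExcess, show N ≠ 0 by omega]
  | r + 1, N, hN => by
    rw [uWeight, uTail_succ (by omega), uExcess, ← Finset.sum_add_distrib]
    refine Finset.sum_congr rfl fun d _ => ?_
    by_cases hd : d = 0
    · subst hd
      simp [uPolyCount, uWeight_eq r N hN]
    rw [if_neg hd, if_neg hd, ← mul_add]
    by_cases hM : N - (r + 1) * d = 0
    · rw [if_pos hM, if_pos hM, hM, uTail_zero_right]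
      have : 1 ≤ uGcd q (r + 1) ^ 2 := Nat.one_le_pow _ _ (uGcd_pos (by omega))
      congr 1
      omega
    · rw [if_neg hM, if_neg hM, uWeight_eq r _ (Nat.one_le_iff_ne_zero.2 hM)]

theorem uExcess_le (a G R : ℕ) (h2 : uGcd q 2 ^ 2 - 1 ≤ a)
    (hG : ∀ i, 3 ≤ i → i ≤ R → uGcd q i ^ 2 - 1 ≤ a + G) : ∀ r, r ≤ R → ∀ N, 1 ≤ N →
    uExcess q r N ≤ a * uTail q 2 r N + G * uTail q 3 r N := by
  intro r
  induction r with
  | zero => intro _ N _; simp [uExcess]
  | succ r ih =>
    intro hR N hN
    rcases r with _ | _ | r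
    · refine le_of_eq_of_le ?_ (Nat.zero_le _)
      rw [uExcess]
      refine Finset.sum_eq_zero fun d _ => ?_
      simp [uExcess, uGcd]
    · have h1 : ∀ M, uExcess q 1 M = 0 := fun M => by
        rw [uExcess]
        exact Finset.sum_eq_zero fun d _ => by simp [uExcess, uGcd]
      refine le_trans ?_ (Nat.le_add_right _ _)
      rw [uExcess, uTail_succ (by omega), Finset.mul_sum]
      refine Finset.sum_le_sum fun d _ => ?_
      split_ifs with hd hM
      · rw [h1]; exact Nat.zero_le _
      · simp only [one_add_one_eq_two] at hM ⊢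
        rw [hM, uTail_zero_right, mul_one, mul_comm]
        exact Nat.mul_le_mul_right _ h2
      · rw [h1]; simp
    · rw [uExcess, uTail_succ (by omega), uTail_succ (by omega), Finset.mul_sum,
        Finset.mul_sum, ← Finset.sum_add_distrib]
      refine Finset.sum_le_sum fun d _ => ?_
      split_ifs with hd hM
      · subst hd
        simpa [uPolyCount] using ih (by omega) N hN
      · rw [hM, uTail_zero_right, uTail_zero_right, mul_one, ← add_mul, mul_comm]
        exact Nat.mul_le_mul_right _ (hG _ (by omega) hR)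
      · rw [mul_left_comm a, mul_left_comm G, ← mul_add]
        exact Nat.mul_le_mul_left _ (ih (by omega) _ (Nat.one_le_iff_ne_zero.2 hM))

/-- the product `∏_{2≤i≤r} (1 + 3/(2^i-2))` -/
def uProd : ℕ → ℚ
  | 0 => 1
  | 1 => 1
  | r + 2 => uProd (r + 1) * (1 + 3 / (2 ^ (r + 2) - 2))

theorem one_le_uProd : ∀ r, 1 ≤ uProd r
  | 0 => le_rfl
  | 1 => le_rfl
  | r + 2 => by
    have h : (2 : ℚ) ≤ 2 ^ (r + 2) := le_self_pow₀ one_le_two (by omega)
    exact one_le_mul_of_one_le_of_one_le (one_le_uProd (r + 1))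
      (le_add_of_nonneg_right (div_nonneg (by norm_num) (by linarith)))

theorem uProd_mono (r : ℕ) : uProd r ≤ uProd (r + 1) := by
  rcases r with _ | r
  · exact le_rfl
  · have h : (2 : ℚ) ≤ 2 ^ (r + 2) := le_self_pow₀ one_le_two (by omega)
    exact le_mul_of_one_le_right (le_trans zero_le_one (one_le_uProd _))
      (le_add_of_nonneg_right (div_nonneg (by norm_num) (by linarith)))

theorem uProd_le : ∀ r, uProd r ≤ 557 / 100 := by
  have h5 : ∀ k, uProd (k + 5) ≤ 557 / 100 - 177 / 10 / 2 ^ (k + 5) := by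
    intro k
    induction k with
    | zero => norm_num [uProd]
    | succ k ih =>
      have hp : (32 : ℚ) ≤ 2 ^ (k + 5) :=
        le_trans (by norm_num) (pow_le_pow_right₀ one_le_two (show 5 ≤ k + 5 by omega))
      rw [show k + 1 + 5 = k + 4 + 2 by omega, uProd, show k + 4 + 1 = k + 5 by omega,
        show k + 4 + 2 = k + 5 + 1 by omega, pow_succ]
      have hden : (0 : ℚ) < 2 ^ (k + 5) * 2 - 2 := by linarith
      refine (mul_le_mul_of_nonneg_right ih (add_nonneg zero_le_one
        (div_nonneg (by norm_num) hden.le))).trans ?_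
      generalize (2 : ℚ) ^ (k + 5) = P at *
      have hP : 0 < P := by linarith
      rw [← sub_nonneg]
      have hP1 : P - 1 ≠ 0 := ne_of_gt (by linarith)
      have hP1' : -1 + P ≠ 0 := ne_of_gt (by linarith)
      have key : 557 / 100 - 177 / 10 / (P * 2) - (557 / 100 - 177 / 10 / P) * (1 + 3 / (P * 2 - 2)) =
          (177 / 10 * (P - 1) - 3 * (557 / 100) * P + 3 * (177 / 10)) / (P * (P * 2 - 2)) := by
        field_simp
        ring
      rw [key]
      exact div_nonneg (by linarith) (mul_nonneg hP.le hden.le)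
  intro r
  have hmono : Monotone uProd := monotone_nat_of_le_succ uProd_mono
  refine (hmono (show r ≤ r + 5 by omega)).trans ((h5 r).trans ?_)
  exact sub_le_self _ (by positivity)

theorem uTail_one_le (hq : 2 ≤ q) : ∀ (r N : ℕ), 1 ≤ r →
    ((q * uTail q 1 r N : ℕ) : ℚ) ≤ (q + 1) * uProd r * (q : ℚ) ^ N := by
  have hq0 : (0 : ℚ) ≤ q := Nat.cast_nonneg q
  intro r
  induction r with
  | zero => intro N h; omega
  | succ r ih =>
    intro N _
    rcases Nat.eq_zero_or_pos r with hr | hr
    · subst hr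
      have hN : uTail q 1 1 N = uPolyCount q N := by
        rw [uTail_succ le_rfl, Finset.sum_eq_single N]
        · simp [uTail]
        · intro d hd hdN
          rw [Finset.mem_range] at hd
          rw [uTail, if_neg (by simp at hd ⊢; omega), mul_zero]
        · intro h; exact absurd (Finset.mem_range.2 (by simp)) h
      rw [hN]
      cases N with
      | zero => simp [uPolyCount, uProd]
      | succ N => simp only [uPolyCount, uProd, mul_one]; push_cast; ring_nf; rfl
    set B : ℚ := (q + 1) * uProd r with hB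
    have hB0 : 0 ≤ B := mul_nonneg (by positivity) (le_trans zero_le_one (one_le_uProd r))
    set T : ℕ → ℕ := fun N => ∑ e ∈ range (N / (r + 1)),
      uPolyCount q (e + 1) * uTail q 1 r (N - (r + 1) * (e + 1)) with hT
    have hrec : ∀ N, r + 1 ≤ N → T N = (q + 1) * uTail q 1 r (N - (r + 1)) + q * T (N - (r + 1)) := by
      intro N hle
      have hdiv : N / (r + 1) = (N - (r + 1)) / (r + 1) + 1 := Nat.div_eq_sub_div (by omega) hle
      simp only [hT]
      rw [hdiv, Finset.sum_range_succ', Finset.mul_sum, add_comm]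
      congr 1
      · simp [uPolyCount]
      · refine Finset.sum_congr rfl fun e _ => ?_
        rw [show N - (r + 1) * (e + 1 + 1) = N - (r + 1) - (r + 1) * (e + 1) by
          rw [mul_add, mul_one, Nat.sub_sub]; ring_nf]
        simp only [uPolyCount, pow_succ]
        ring
    have hqr : (q : ℚ) < (q : ℚ) ^ (r + 1) := by
      exact_mod_cast (show q < q ^ (r + 1) by
        calc q = q ^ 1 := (pow_one q).symm
          _ < _ := Nat.pow_lt_pow_right (by omega) (by omega))
    have hTb : ∀ N, ((q * T N : ℕ) : ℚ) * ((q : ℚ) ^ (r + 1) - q) ≤ (q + 1) * B * (q : ℚ) ^ N := by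
      intro N
      induction N using Nat.strong_induction_on with
      | _ N ihN =>
        rcases Nat.lt_or_ge N (r + 1) with hlt | hge
        · simp only [hT, Nat.div_eq_of_lt hlt, Finset.range_zero, Finset.sum_empty, mul_zero,
            Nat.cast_zero, zero_mul]
          positivity
        have h1 := ihN (N - (r + 1)) (by omega)
        have h2 := ih (N - (r + 1)) hr
        rw [hrec N hge]
        have hpow : (q : ℚ) ^ N = (q : ℚ) ^ (r + 1) * (q : ℚ) ^ (N - (r + 1)) := by
          rw [← pow_add]; congr 1; omega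
        rw [hpow]
        push_cast at h1 h2 ⊢
        have h2' := mul_le_mul_of_nonneg_left h2
          (show (0 : ℚ) ≤ (q + 1) * ((q : ℚ) ^ (r + 1) - q) from mul_nonneg (by positivity) (by linarith))
        have h1' := mul_le_mul_of_nonneg_left h1 hq0
        linear_combination h2' + h1'
    have hsplit : uTail q 1 (r + 1) N = uTail q 1 r N + T N := by
      rw [uTail_succ (by omega), Finset.sum_range_succ', add_comm]
      simp [hT, uPolyCount]
    have hmono : ((q : ℚ) + 1) * (2 ^ (r + 1) - 2) ≤ 3 * ((q : ℚ) ^ (r + 1) - q) := by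
      have hq2 : (2 : ℚ) ≤ q := by exact_mod_cast hq
      have : ∀ k : ℕ, ((q : ℚ) + 1) * (2 ^ (k + 2) - 2) ≤ 3 * ((q : ℚ) ^ (k + 2) - q) := by
        intro k
        induction k with
        | zero => norm_num; nlinarith [mul_nonneg (sub_nonneg.2 hq2) (show (0 : ℚ) ≤ q by linarith)]
        | succ k ihk =>
          have h1 : (2 : ℚ) ≤ 2 ^ (k + 2) := le_self_pow₀ one_le_two (by omega)
          have h2 : (q : ℚ) ≤ (q : ℚ) ^ (k + 2) := le_self_pow₀ (by linarith) (by omega)
          rw [show k + 1 + 2 = k + 2 + 1 by omega, pow_succ, pow_succ (q : ℚ) (k + 2)]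
          nlinarith
      obtain ⟨k, rfl⟩ : ∃ k, r = k + 1 := ⟨r - 1, by omega⟩
      exact this k
    obtain ⟨k, rfl⟩ : ∃ k, r = k + 1 := ⟨r - 1, by omega⟩
    have hP : uProd (k + 1 + 1) = uProd (k + 1) * (1 + 3 / (2 ^ (k + 2) - 2)) := rfl
    rw [hsplit, hP]
    have hden : (0 : ℚ) < 2 ^ (k + 1 + 1) - 2 := by
      have : (2 : ℚ) * 2 ≤ 2 ^ (k + 1 + 1) := by
        calc (2 : ℚ) * 2 = 2 ^ 2 := by norm_num
          _ ≤ _ := pow_le_pow_right₀ one_le_two (by omega)
      linarith
    have hden' : (0 : ℚ) < (q : ℚ) ^ (k + 1 + 1) - q := by linarith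
    have hT' : ((q * T N : ℕ) : ℚ) ≤ 3 / (2 ^ (k + 1 + 1) - 2) * (B * (q : ℚ) ^ N) := by
      rw [div_mul_eq_mul_div, le_div_iff₀ hden]
      refine le_of_mul_le_mul_right ?_ hden'
      have h3 := mul_le_mul_of_nonneg_right (hTb N) hden.le
      have h4 := mul_le_mul_of_nonneg_left hmono (show (0 : ℚ) ≤ B * (q : ℚ) ^ N by positivity)
      linarith
    have h5 := ih N hr
    push_cast at hT' h5 ⊢
    rw [hB] at hT' h5
    linarith

theorem uWeight_le (hq : 2 ≤ q) {n : ℕ} (hn : 2 ≤ n) :
    100 * uWeight q n n ≤ 826 * ((q + 1) * q ^ (n - 1)) := by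
  rw [uWeight_eq n n (by omega)]
  set M := (q + 1) * q ^ (n - 1) with hM
  have hK : 100 * uTail q 1 n n ≤ 557 * M := by
    refine Nat.le_of_mul_le_mul_left ?_ (show 0 < q by omega)
    have h := (uTail_one_le hq n n (by omega)).trans
      (mul_le_mul_of_nonneg_right (mul_le_mul_of_nonneg_left (uProd_le n) (by positivity)) (by positivity))
    have hM' : q * M = (q + 1) * q ^ n := by
      rw [hM, ← mul_assoc, mul_comm q (q + 1), mul_assoc, ← pow_succ', show n - 1 + 1 = n by omega]
    suffices hh : ((q * (100 * uTail q 1 n n) : ℕ) : ℚ) ≤ ((557 * ((q + 1) * q ^ n) : ℕ) : ℚ) by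
      rw [show q * (557 * M) = 557 * (q * M) by ring, hM']
      exact_mod_cast hh
    push_cast at h ⊢
    linarith
  have hsq : ∀ {b i : ℕ}, uGcd q i ≤ b → uGcd q i ^ 2 - 1 ≤ b ^ 2 - 1 := fun h =>
    Nat.sub_le_sub_right (Nat.pow_le_pow_left h 2) 1
  have h3 : q ^ 2 * uTail q 3 n n ≤ M := by
    rcases Nat.lt_or_ge n 3 with hn3 | hn3
    · rw [uTail_small (by omega) hn3]; simp
    · refine (Nat.mul_le_mul_left _ (uTail_le hq n 3 (by omega) (Or.inr le_rfl) hn3)).trans (le_of_eq ?_)
      rw [hM, mul_left_comm, ← pow_add]; congr 2; omega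
  rcases Nat.eq_or_lt_of_le hq with hq2 | hq3
  · subst hq2
    have hS := uExcess_le (q := 2) 0 8 n (by decide)
      (fun i _ _ => by simpa using hsq (uGcd_le_right 2 i)) n le_rfl n (by omega)
    omega
  · have hS := uExcess_le (q := q) 3 (q ^ 2 + 2 * q) n (hsq (uGcd_le_left q (by omega)))
      (fun i _ _ => (hsq (uGcd_le_right q i)).trans (by
        rw [show (q + 1) ^ 2 = q ^ 2 + 2 * q + 1 by ring, Nat.add_sub_cancel]
        exact Nat.le_add_left _ _)) n le_rfl n (by omega)
    have h2 : q * uTail q 2 n n ≤ M := by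
      refine (Nat.mul_le_mul_left _ (uTail_le hq n 2 le_rfl (Or.inl hq3) hn)).trans (le_of_eq ?_)
      rw [hM, mul_left_comm, ← pow_succ']; congr 2; omega
    have e2 : 3 * uTail q 2 n n ≤ M := le_trans (Nat.mul_le_mul_right _ hq3) h2
    have e3 : 3 * (2 * q * uTail q 3 n n) ≤ 2 * M := by
      calc 3 * (2 * q * uTail q 3 n n) ≤ q * (2 * q * uTail q 3 n n) := Nat.mul_le_mul_right _ hq3
        _ = 2 * (q ^ 2 * uTail q 3 n n) := by ring
        _ ≤ _ := Nat.mul_le_mul_left _ h3
    rw [add_mul] at hS
    omega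

theorem uWeight_stable (q : ℕ) {m : ℕ} : ∀ {r : ℕ}, m ≤ r → uWeight q r m = uWeight q m m := by
  intro r hr
  induction r, hr using Nat.le_induction with
  | base => rfl
  | succ r hr ih =>
    rw [uWeight, Nat.div_eq_of_lt (by omega : m < r + 1), ← ih]
    simp

end CfsgLib.SpecUnitary
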