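import Mathlib
import Cfsg.Agent.Lib.SpecGL.TupleWeight
import Cfsg.Agent.Lib.SpecUnitary.UWeightCount
import Cfsg.Agent.Lib.ClassicalGroups.HermBasic

/-!
Conjugate-reciprocal polynomials over the field with `q²` elements and their weighted tuples.
-/

set_option autoImplicit false

namespace CfsgLib.SpecUnitary

open Polynomial CfsgLib.SpecGL

variable {F : Type*} [Field F] {τ : F →+* F}

/-- the monic conjugate-reciprocal of a polynomial -/
noncomputable def conjRev (τ : F →+* F) (p : F[X]) : F[X] :=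
  C (τ (p.coeff 0))⁻¹ * (p.map τ).reverse

theorem coeff_conjRev (p : F[X]) {i : ℕ} (hi : i ≤ p.natDegree) :
    (conjRev τ p).coeff i = (τ (p.coeff 0))⁻¹ * τ (p.coeff (p.natDegree - i)) := by
  rw [conjRev, coeff_C_mul, coeff_reverse, natDegree_map_eq_of_injective τ.injective,
    revAt_le hi, coeff_map]

theorem natDegree_conjRev_le (p : F[X]) : (conjRev τ p).natDegree ≤ p.natDegree := by
  refine (natDegree_C_mul_le _ _).trans ?_
  rw [← natDegree_map_eq_of_injective τ.injective p]
  exact reverse_natDegree_le _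

theorem natDegree_conjRev {p : F[X]} (h0 : p.coeff 0 ≠ 0) :
    (conjRev τ p).natDegree = p.natDegree := by
  refine le_antisymm (natDegree_conjRev_le p) (le_natDegree_of_ne_zero ?_)
  rw [coeff_conjRev p le_rfl, Nat.sub_self]
  exact mul_ne_zero (inv_ne_zero ((map_ne_zero τ).2 h0)) ((map_ne_zero τ).2 h0)

theorem monic_conjRev {p : F[X]} (h0 : p.coeff 0 ≠ 0) : (conjRev τ p).Monic := by
  rw [Monic, leadingCoeff, natDegree_conjRev h0, coeff_conjRev p le_rfl, Nat.sub_self]
  exact inv_mul_cancel₀ ((map_ne_zero τ).2 h0)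

theorem coeff_zero_conjRev {p : F[X]} (hm : p.Monic) :
    (conjRev τ p).coeff 0 = (τ (p.coeff 0))⁻¹ := by
  rw [coeff_conjRev p (Nat.zero_le _), Nat.sub_zero, hm.coeff_natDegree, map_one, mul_one]

theorem coeff_zero_conjRev_ne {p : F[X]} (hm : p.Monic) (h0 : p.coeff 0 ≠ 0) :
    (conjRev τ p).coeff 0 ≠ 0 := by
  rw [coeff_zero_conjRev hm]
  exact inv_ne_zero ((map_ne_zero τ).2 h0)

theorem conjRev_mul (a b : F[X]) : conjRev τ (a * b) = conjRev τ a * conjRev τ b := by
  rw [conjRev, conjRev, conjRev, Polynomial.map_mul, reverse_mul_of_domain, mul_coeff_zero, map_mul,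
    mul_inv, C_mul]
  ring

theorem conjRev_one : conjRev τ 1 = 1 := by
  rw [conjRev, coeff_one_zero, map_one, inv_one, map_one, one_mul, Polynomial.map_one, ← C_1,
    reverse_C]

theorem conjRev_pow (a : F[X]) : ∀ e : ℕ, conjRev τ (a ^ e) = conjRev τ a ^ e
  | 0 => by simp [conjRev_one]
  | e + 1 => by rw [pow_succ, conjRev_mul, conjRev_pow a e, pow_succ]

theorem conjRev_multiset_prod (s : Multiset F[X]) :
    conjRev τ s.prod = (s.map (conjRev τ)).prod := by
  induction s using Multiset.induction with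
  | empty => simp [conjRev_one]
  | cons a s ih => rw [Multiset.prod_cons, conjRev_mul, ih, Multiset.map_cons, Multiset.prod_cons]

theorem conjRev_conjRev (hτ2 : ∀ x, τ (τ x) = x) {p : F[X]} (hm : p.Monic) (h0 : p.coeff 0 ≠ 0) :
    conjRev τ (conjRev τ p) = p := by
  ext i
  rcases Nat.lt_or_ge p.natDegree i with h | h
  · rw [coeff_eq_zero_of_natDegree_lt h, coeff_eq_zero_of_natDegree_lt]
    exact lt_of_le_of_lt ((natDegree_conjRev_le _).trans (natDegree_conjRev_le _)) h
  · rw [coeff_conjRev _ (by rw [natDegree_conjRev h0]; exact h), natDegree_conjRev h0,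
      coeff_zero_conjRev hm, coeff_conjRev p (Nat.sub_le _ _), Nat.sub_sub_self h, map_inv₀, hτ2,
      map_mul, map_inv₀, hτ2, hτ2, inv_inv]
    field_simp

theorem irreducible_conjRev (hτ2 : ∀ x, τ (τ x) = x) {p : F[X]} (hm : p.Monic) (h0 : p.coeff 0 ≠ 0)
    (hp : Irreducible p) : Irreducible (conjRev τ p) := by
  rw [(monic_conjRev h0).irreducible_iff_natDegree]
  refine ⟨fun h => ?_, fun f g hf hg hfg => ?_⟩
  · have := congrArg natDegree h
    rw [natDegree_conjRev h0, natDegree_one] at this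
    have := hp.natDegree_pos
    omega
  · have hfg0 : f.coeff 0 * g.coeff 0 ≠ 0 := by
      rw [← mul_coeff_zero, hfg]; exact coeff_zero_conjRev_ne hm h0
    have hp' : conjRev τ f * conjRev τ g = p := by
      rw [← conjRev_mul, hfg, conjRev_conjRev hτ2 hm h0]
    rcases hp.isUnit_or_isUnit hp'.symm with h | h
    · left
      rw [← natDegree_conjRev (τ := τ) (left_ne_zero_of_mul hfg0)]
      exact natDegree_eq_zero_of_isUnit h
    · right
      rw [← natDegree_conjRev (τ := τ) (right_ne_zero_of_mul hfg0)]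
      exact natDegree_eq_zero_of_isUnit h

theorem fixed_relation {p : F[X]} (hm : p.Monic) (h : conjRev τ p = p) :
    (τ (p.coeff 0))⁻¹ = p.coeff 0 ∧
      ∀ i ≤ p.natDegree, p.coeff i = p.coeff 0 * τ (p.coeff (p.natDegree - i)) := by
  have h1 : (τ (p.coeff 0))⁻¹ = p.coeff 0 := by rw [← coeff_zero_conjRev hm, h]
  refine ⟨h1, fun i hi => ?_⟩
  conv_lhs => rw [← h]
  rw [coeff_conjRev p hi, h1]

section counting

variable [Fintype F] {q : ℕ}

theorem card_fixed_affine (hF : Fintype.card F = q ^ 2) (hτ : ∀ x, τ x = x ^ q) (a : F) :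
    Nat.card {x : F // x = a * τ x} ≤ q := by
  classical
  have hq := CfsgLib.ClassicalGroups.herm_two_le hF
  have hne : (C a * X ^ q - X : F[X]) ≠ 0 := fun h => by
    have := congrArg (fun P : F[X] => P.coeff 1) h
    simp [coeff_X_pow, show 1 ≠ q by omega] at this
  have hdeg : (C a * X ^ q - X : F[X]).natDegree ≤ q :=
    (natDegree_sub_le _ _).trans (max_le (natDegree_C_mul_X_pow_le a q) (natDegree_X.trans_le (by omega)))
  refine le_trans ?_ ((Multiset.toFinset_card_le _).trans ((card_roots' _).trans hdeg))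
  rw [← Nat.card_eq_finsetCard]
  refine Nat.card_le_card_of_injective (fun x => ⟨x.1, ?_⟩)
    fun x y h => Subtype.ext (congrArg (fun z => z.1) h)
  rw [Multiset.mem_toFinset, mem_roots hne, IsRoot, eval_sub, eval_mul, eval_C, eval_pow, eval_X,
    sub_eq_zero, ← hτ]
  exact x.2.symm

theorem card_norm_one_det (hF : Fintype.card F = q ^ 2) (k : ℕ) {c : F} (hc : c ≠ 0) (u : F)
    [DecidableEq F] :
    ((Finset.univ : Finset F).filter fun a => a ^ (q + 1) = 1 ∧ (c * a) ^ k = u).card ≤ uGcd q k := by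
  set S := (Finset.univ : Finset F).filter fun a => a ^ (q + 1) = 1 ∧ (c * a) ^ k = u with hS
  rcases Finset.eq_empty_or_nonempty S with he | ⟨a₀, ha₀⟩
  · rw [he]; simp
  simp only [hS, Finset.mem_filter, Finset.mem_univ, true_and] at ha₀
  have hne : ∀ a : F, a ^ (q + 1) = 1 → a ≠ 0 := fun a ha h => by simp [h] at ha
  have hdvd : uGcd q k ∣ Fintype.card Fˣ := by
    refine (Nat.gcd_dvd_right _ _).trans ?_
    rw [← Nat.card_eq_fintype_card, CfsgLib.ClassicalGroups.card_units_herm hF]
    exact dvd_mul_left _ _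
  have hker : Nat.card (powMonoidHom (uGcd q k) : Fˣ →* Fˣ).ker = uGcd q k := by
    rw [IsCyclic.card_powMonoidHom_ker, Nat.card_eq_fintype_card]
    exact Nat.gcd_eq_right hdvd
  rw [← hker, ← Nat.card_eq_finsetCard]
  refine Nat.card_le_card_of_injective (fun a => ⟨Units.mk0 (a : F) (hne _ (Finset.mem_filter.1 a.2).2.1) *
    (Units.mk0 a₀ (hne _ ha₀.1))⁻¹, ?_⟩) ?_
  · obtain ⟨h1, h2⟩ := (Finset.mem_filter.1 a.2).2
    rw [MonoidHom.mem_ker, powMonoidHom_apply]
    refine pow_gcd_eq_one.2 ⟨?_, ?_⟩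
    · have h3 := h2.trans ha₀.2.symm
      rw [mul_pow, mul_pow] at h3
      have h4 := mul_left_cancel₀ (pow_ne_zero k hc) h3
      ext
      simp only [mul_pow, inv_pow, Units.val_mul, Units.val_inv_eq_inv_val, Units.val_pow_eq_pow_val,
        Units.val_mk0, Units.val_one, h4]
      exact mul_inv_cancel₀ (pow_ne_zero k (hne _ ha₀.1))
    · ext
      simp only [mul_pow, inv_pow, Units.val_mul, Units.val_inv_eq_inv_val, Units.val_pow_eq_pow_val,
        Units.val_mk0, Units.val_one, h1, ha₀.1, inv_one, mul_one]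
  · intro a b h
    have h' := mul_right_cancel (congrArg Subtype.val h)
    exact Subtype.ext (congrArg Units.val h')

theorem card_conjRev_fixed (hF : Fintype.card F = q ^ 2) (hτ : ∀ x, τ x = x ^ q) (k e : ℕ) (u : F) :
    Nat.card {f : F[X] // f ∈ polys F (e + 1) ∧ conjRev τ f = f ∧ polyDet f ^ k = u} ≤
      uGcd q k * q ^ e := by
  classical
  set T := (Finset.univ : Finset F).filter
    fun a => a ^ (q + 1) = 1 ∧ ((-1 : F) ^ (e + 1) * a) ^ k = u with hT
  have hfix : ∀ f : F[X], f ∈ polys F (e + 1) ∧ conjRev τ f = f ∧ polyDet f ^ k = u →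
      f.coeff 0 ∈ T := by
    rintro f ⟨hf, hc, hu⟩
    obtain ⟨hm, hd, h0⟩ := spec_polys hf
    rw [hT, Finset.mem_filter]
    refine ⟨Finset.mem_univ _, ?_, by rw [polyDet, hd] at hu; exact hu⟩
    rw [pow_succ, ← hτ]
    nth_rw 2 [← (fixed_relation hm hc).1]
    exact mul_inv_cancel₀ ((map_ne_zero τ).2 h0)
  let L := {f : F[X] // f ∈ polys F (e + 1) ∧ conjRev τ f = f ∧ polyDet f ^ k = u}
  haveI : Finite L := Finite.of_injective (fun f : L => (⟨f.1, f.2.1⟩ : polys F (e + 1)))
    fun a b h => Subtype.ext (congrArg (fun z => z.1) h)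
  have key : ∀ f g : L, f.1.coeff 0 = g.1.coeff 0 → (∀ i, 1 ≤ i → 2 * i ≤ e + 1 → f.1.coeff i = g.1.coeff i) →
      f = g := by
    intro f g h0 hlow
    obtain ⟨hfm, hfd, -⟩ := spec_polys f.2.1
    obtain ⟨hgm, hgd, -⟩ := spec_polys g.2.1
    refine Subtype.ext (Polynomial.ext fun i => ?_)
    rcases Nat.lt_or_ge (e + 1) i with hi | hi
    · rw [coeff_eq_zero_of_natDegree_lt (by omega), coeff_eq_zero_of_natDegree_lt (by omega)]
    rcases (show i = 0 ∨ (1 ≤ i ∧ 2 * i ≤ e + 1) ∨ i = e + 1 ∨ (1 ≤ e + 1 - i ∧ 2 * (e + 1 - i) ≤ e + 1) by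
      omega) with rfl | ⟨h1, h2⟩ | rfl | ⟨h1, h2⟩
    · exact h0
    · exact hlow i h1 h2
    · have h1 := hfm.coeff_natDegree; have h2 := hgm.coeff_natDegree
      rw [hfd] at h1; rw [hgd] at h2
      rw [h1, h2]
    · rw [(fixed_relation hfm f.2.2.1).2 i (by omega), (fixed_relation hgm g.2.2.1).2 i (by omega),
        hfd, hgd, h0, hlow _ h1 h2]
  have hcard : ∀ a : F, Nat.card {f : L // f.1.coeff 0 = a} ≤ q ^ e := by
    intro a
    rcases Nat.even_or_odd' e with ⟨m, rfl | rfl⟩
    · refine (Nat.card_le_card_of_injective (β := Fin m → F) (fun f j => f.1.1.coeff ((j : ℕ) + 1))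
        fun f g h => Subtype.ext (key f.1 g.1 (f.2.trans g.2.symm) fun i h1 h2 => ?_)).trans ?_
      · have := congrFun h ⟨i - 1, by omega⟩
        simpa [Nat.sub_add_cancel h1] using this
      · rw [Nat.card_fun, Nat.card_fin, Nat.card_eq_fintype_card, hF, ← pow_mul]
    · refine (Nat.card_le_card_of_injective (β := (Fin m → F) × {x : F // x = a * τ x})
        (fun f => (fun j => f.1.1.coeff ((j : ℕ) + 1), ⟨f.1.1.coeff (m + 1), ?_⟩))
        fun f g h => Subtype.ext (key f.1 g.1 (f.2.trans g.2.symm) fun i h1 h2 => ?_)).trans ?_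
      · obtain ⟨hfm, hfd, -⟩ := spec_polys f.1.2.1
        conv_lhs => rw [(fixed_relation hfm f.1.2.2.1).2 (m + 1) (by omega)]
        rw [f.2, hfd, show 2 * m + 1 + 1 - (m + 1) = m + 1 by omega]
      · rcases Nat.eq_or_lt_of_le (show i ≤ m + 1 by omega) with h' | h'
        · subst h'; exact congrArg (fun z => z.2.1) h
        · have := congrFun (congrArg Prod.fst h) ⟨i - 1, by omega⟩
          simpa [Nat.sub_add_cancel h1] using this
      · rw [Nat.card_prod, Nat.card_fun, Nat.card_fin, Nat.card_eq_fintype_card, hF, ← pow_mul, pow_succ]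
        exact Nat.mul_le_mul_left _ (card_fixed_affine hF hτ a)
  calc Nat.card L = Nat.card (Σ a : T, {f : L // f.1.coeff 0 = a.1}) := by
        refine Nat.card_congr
          { toFun := fun f => ⟨⟨f.1.coeff 0, hfix f.1 f.2⟩, f, rfl⟩
            invFun := fun x => x.2.1
            left_inv := fun f => rfl
            right_inv := ?_ }
        rintro ⟨⟨a, ha⟩, f, hf⟩
        dsimp only at hf
        subst hf
        rfl
    _ = ∑ a : T, Nat.card {f : L // f.1.coeff 0 = a.1} := Nat.card_sigma
    _ ≤ ∑ _a : T, q ^ e := Finset.sum_le_sum fun a _ => hcard a.1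
    _ ≤ _ := by
      rw [Finset.sum_const, smul_eq_mul, Finset.card_univ, Fintype.card_coe]
      exact Nat.mul_le_mul_right _ (card_norm_one_det hF k (pow_ne_zero _ (neg_ne_zero.2 one_ne_zero)) u)

theorem weighted_utuples_le (hF : Fintype.card F = q ^ 2) (hτ : ∀ x, τ x = x ^ q) :
    ∀ (r N : ℕ), 1 ≤ N → ∀ (u : F) (wt : (m : ℕ) → (Fin m → F[X]) → ℕ),
    (∀ (m : ℕ) (t : Fin m → F[X]) (x : F[X]),
      (∀ i, (t i).natDegree = 0) → wt (m + 1) (Fin.snoc t x) = uGcd q (m + 1)) →
    (∀ (m : ℕ) (t : Fin m → F[X]) (x : F[X]),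
      (¬ ∀ i, (t i).natDegree = 0) → wt (m + 1) (Fin.snoc t x) = wt m t) →
    (q + 1) * ∑ g ∈ tuples F r N,
      (open scoped Classical in if (∀ i, conjRev τ (g i) = g i) ∧ tupleDet g = u then wt r g else 0)
      ≤ uWeight q r N := by
  classical
  intro r
  induction r with
  | zero =>
    intro N hN u wt _ _
    simp [tuples, show N ≠ 0 by omega]
  | succ r ih =>
    intro N hN u wt hw0 hw1
    letI := Classical.decEq (Fin (r + 1) → F[X])
    rw [tuples, uWeight, Finset.mul_sum]
    refine (sum_biUnion_le' _ _ _).trans (Finset.sum_le_sum fun d _ => ?_)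
    refine (Finset.sum_image_le_of_nonneg fun _ _ => Nat.zero_le _).trans ?_
    rw [Finset.sum_product]
    have hall : ∀ (t : Fin r → F[X]) (x : F[X]),
        (∀ i, conjRev τ ((Fin.snoc t x : Fin (r + 1) → F[X]) i) = (Fin.snoc t x : Fin (r + 1) → F[X]) i) ↔
          (∀ i, conjRev τ (t i) = t i) ∧ conjRev τ x = x := fun t x => by
      rw [Fin.forall_fin_succ']
      simp
    have hpos : ∀ {M : ℕ}, 1 ≤ M → ∀ t ∈ tuples F r M, ∀ x : F[X],
        wt (r + 1) (Fin.snoc t x) = wt r t := fun {M} hM t ht x => hw1 r t x fun h => by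
      have := (spec_tuples ht).2
      simp only [h, mul_zero, Finset.sum_const_zero] at this
      omega
    by_cases hd0 : d = 0
    · subst hd0
      rw [if_pos rfl, polys, Finset.sum_singleton, mul_zero, Nat.sub_zero]
      refine le_trans (le_of_eq ?_) (ih N hN u wt hw0 hw1)
      rw [Finset.mul_sum]
      refine Finset.sum_congr rfl fun t ht => ?_
      simp only [tupleDet_snoc, polyDet_one, one_pow, mul_one, hall, conjRev_one, and_true, hpos hN t ht]
    rw [if_neg hd0]
    obtain ⟨e, rfl⟩ : ∃ e, d = e + 1 := ⟨d - 1, by omega⟩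
    have hcount : ∀ (k : ℕ) (v : F), ((polys F (e + 1)).filter fun x => conjRev τ x = x ∧ polyDet x ^ k = v).card
        ≤ uGcd q k * q ^ e := fun k v => by
      refine le_trans ?_ (card_conjRev_fixed hF hτ k e v)
      rw [← Nat.card_eq_finsetCard]
      haveI : Finite {f : F[X] // f ∈ polys F (e + 1) ∧ conjRev τ f = f ∧ polyDet f ^ k = v} :=
        Finite.of_injective (fun f => (⟨f.1, f.2.1⟩ : polys F (e + 1)))
          fun a b h => Subtype.ext (congrArg (fun z => z.1) h)
      exact Nat.card_le_card_of_injective (fun f => ⟨f.1, Finset.mem_filter.1 f.2⟩)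
        fun a b h => Subtype.ext (congrArg (fun z => z.1) h)
    by_cases hM : N - (r + 1) * (e + 1) = 0
    · rw [if_pos hM, hM]
      have hone : tuples F r 0 = {fun _ => 1} := by
        refine Finset.eq_singleton_iff_unique_mem.2 ⟨mem_tuples (fun i => by simp) (by simp),
          fun t ht => funext fun i => ?_⟩
        have h := (spec_tuples ht).2
        rw [Finset.sum_eq_zero_iff] at h
        have := h i (Finset.mem_univ i)
        exact ((spec_tuples ht).1 i).1.natDegree_eq_zero.1 (by simpa using this)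
      rw [hone]
      calc ∑ x ∈ polys F (e + 1), ∑ t ∈ ({fun _ => 1} : Finset (Fin r → F[X])),
            (q + 1) * (if (∀ i, conjRev τ ((Fin.snoc t x : Fin (r + 1) → F[X]) i) =
              (Fin.snoc t x : Fin (r + 1) → F[X]) i) ∧ tupleDet (Fin.snoc t x : Fin (r + 1) → F[X]) = u then
              wt (r + 1) (Fin.snoc t x) else 0)
          = ∑ x ∈ (polys F (e + 1)).filter (fun x => conjRev τ x = x ∧ polyDet x ^ (r + 1) = u),
              (q + 1) * uGcd q (r + 1) := by
            rw [Finset.sum_filter]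
            refine Finset.sum_congr rfl fun x _ => ?_
            have h1 : tupleDet (fun _ : Fin r => (1 : F[X])) = 1 := by simp [tupleDet, polyDet_one]
            simp only [Finset.sum_singleton, tupleDet_snoc, h1, one_mul, hall, conjRev_one,
              implies_true, true_and, hw0 r (fun _ => 1) x fun i => natDegree_one, mul_ite, mul_zero]
        _ ≤ _ := by
            rw [Finset.sum_const, smul_eq_mul, uPolyCount]
            refine (Nat.mul_le_mul_right _ (hcount (r + 1) u)).trans (le_of_eq ?_)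
            ring
    · rw [if_neg hM]
      calc ∑ x ∈ polys F (e + 1), ∑ t ∈ tuples F r (N - (r + 1) * (e + 1)),
            (q + 1) * (if (∀ i, conjRev τ ((Fin.snoc t x : Fin (r + 1) → F[X]) i) =
              (Fin.snoc t x : Fin (r + 1) → F[X]) i) ∧ tupleDet (Fin.snoc t x : Fin (r + 1) → F[X]) = u then
              wt (r + 1) (Fin.snoc t x) else 0)
          ≤ ∑ x ∈ polys F (e + 1),
              (if conjRev τ x = x ∧ polyDet x ^ 0 = 1 then uWeight q r (N - (r + 1) * (e + 1)) else 0) := by
            refine Finset.sum_le_sum fun x hx => ?_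
            by_cases hfx : conjRev τ x = x
            · rw [if_pos ⟨hfx, pow_zero _⟩]
              have hx0 : polyDet x ^ (r + 1) ≠ 0 :=
                pow_ne_zero _ (mul_ne_zero (pow_ne_zero _ (neg_ne_zero.2 one_ne_zero)) (spec_polys hx).2.2)
              refine le_trans (le_of_eq ?_) (ih _ (Nat.one_le_iff_ne_zero.2 hM) (u / polyDet x ^ (r + 1))
                wt hw0 hw1)
              rw [Finset.mul_sum]
              refine Finset.sum_congr rfl fun t ht => ?_
              simp only [tupleDet_snoc, hall, hfx, and_true, hpos (Nat.one_le_iff_ne_zero.2 hM) t ht,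
                eq_div_iff hx0]
            · rw [if_neg fun h => hfx h.1]
              exact le_of_eq (Finset.sum_eq_zero fun t _ => by
                rw [if_neg fun h => hfx ((hall t x).1 h.1).2, mul_zero])
        _ ≤ _ := by
            rw [← Finset.sum_filter, Finset.sum_const, smul_eq_mul, uPolyCount]
            refine Nat.mul_le_mul_right _ ((hcount 0 1).trans (le_of_eq ?_))
            simp [uGcd]

end counting

end CfsgLib.SpecUnitary
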