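import Mathlib

/-!
Finite commutative rings with an involution: Hilbert 90 and surjectivity of the norm onto fixed units.
-/

set_option autoImplicit false

namespace CfsgLib.SpecUnitary

variable {R : Type*} [CommRing R] [Finite R]

theorem exists_idempotent_power (y : R) : ∃ N, 1 ≤ N ∧ y ^ N * y ^ N = y ^ N := by
  obtain ⟨i, j, hne, h⟩ := Finite.exists_ne_map_eq_of_infinite fun k : ℕ => y ^ k
  wlog hij : i < j generalizing i j
  · exact this j i (Ne.symm hne) h.symm (lt_of_le_of_ne (not_lt.1 hij) (Ne.symm hne))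
  have hper : ∀ t, i ≤ t → ∀ k : ℕ, y ^ (t + k * (j - i)) = y ^ t := by
    intro t ht k
    induction k with
    | zero => simp
    | succ k ih =>
      rw [show t + (k + 1) * (j - i) = j + (t - i + k * (j - i)) by rw [Nat.succ_mul]; omega, pow_add,
        show y ^ j = y ^ i from h.symm, ← pow_add,
        show i + (t - i + k * (j - i)) = t + k * (j - i) by omega, ih]
  refine ⟨(i + 1) * (j - i), Nat.mul_pos (by omega) (by omega), ?_⟩
  rw [← pow_add, hper]
  exact le_trans (Nat.le_succ i) (Nat.le_mul_of_pos_right _ (by omega))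

/-- For `w σ(w) = 1` some `a + w σ(a)` is a unit. -/
theorem exists_unit_twist (σ : R →+* R) {lam w : R} (hlam : IsUnit (lam - σ lam))
    (hw : w * σ w = 1) : ∃ a, IsUnit (a + w * σ a) := by
  obtain ⟨N, hN, he⟩ := exists_idempotent_power (1 + w)
  set e := (1 + w) ^ N with hedef
  have hσ1 : σ (1 + w) = σ w * (1 + w) := by
    rw [map_add, map_one, mul_add, mul_one, mul_comm (σ w), hw, add_comm]
  have hσe : σ e = σ w ^ N * e := by rw [hedef, map_pow, hσ1, mul_pow]
  have hu : IsUnit (σ w ^ N) :=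
    (isUnit_iff_exists_inv'.2 ⟨w, hw⟩).pow N
  have hfix : σ e = e := by
    have h2 : σ e * σ e = σ e := by rw [← map_mul, he]
    rw [hσe, show σ w ^ N * e * (σ w ^ N * e) = σ w ^ N * (σ w ^ N * (e * e)) by ring, he] at h2
    rw [hσe]
    exact hu.mul_left_cancel h2
  refine ⟨e + (1 - e) * lam, ?_⟩
  set y := e + (1 - e) * lam + w * σ (e + (1 - e) * lam) with hy
  have hy' : y = e * (1 + w) + (1 - e) * (lam + w * σ lam) := by
    rw [hy, map_add, map_mul, map_sub, map_one, hfix]; ring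
  obtain ⟨u, hu'⟩ := hlam
  have hnil : IsNilpotent ((↑u⁻¹ : R) * σ lam * ((1 - e) * (1 + w))) := by
    refine ⟨N, ?_⟩
    have h0 : (1 - e) ^ N * e = 0 := by
      obtain ⟨m, rfl⟩ : ∃ m, N = m + 1 := ⟨N - 1, by omega⟩
      rw [pow_succ, mul_assoc, sub_mul, one_mul, he, sub_self, mul_zero]
    rw [mul_pow, mul_pow _ (1 + w), ← hedef, h0, mul_zero]
  have hA : y * ((1 + w) ^ (N - 1) * e + ↑u⁻¹ * (1 - e)) =
      1 + ↑u⁻¹ * σ lam * ((1 - e) * (1 + w)) := by
    have hpow : (1 + w) * (1 + w) ^ (N - 1) = e := by rw [← pow_succ', Nat.sub_add_cancel hN]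
    have hinvu : (u : R) * ↑u⁻¹ = 1 := Units.mul_inv u
    rw [hy']
    linear_combination (e * e) * hpow + (1 - e) * (1 - e) * hinvu +
      ((1 - e) * (1 - e) * (↑u⁻¹ : R)) * hu'.symm +
      (e + 2 + σ lam * (↑u⁻¹ : R) * (1 + w) - (1 + w) * (↑u⁻¹ : R) -
        (lam + w * σ lam) * (1 + w) ^ (N - 1)) * he
  exact isUnit_of_mul_isUnit_left (hA ▸ hnil.isUnit_one_add)

/-- Every fixed unit is a norm. -/
theorem exists_mul_conj_eq (σ : R →+* R) (hinv : ∀ r, σ (σ r) = r) {lam : R}
    (hlam : IsUnit (lam - σ lam)) {s : R} (hs : IsUnit s) (hfix : σ s = s) :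
    ∃ z, z * σ z = s := by
  classical
  haveI : Fintype R := Fintype.ofFinite R
  let su : Rˣ →* Rˣ := Units.map (σ : R →* R)
  let Nm : Rˣ →* Rˣ := MonoidHom.id Rˣ * su
  let Dv : Rˣ →* Rˣ := MonoidHom.id Rˣ * su⁻¹
  have hker : Nm.ker ≤ Dv.range := by
    intro x hx
    rw [MonoidHom.mem_ker] at hx
    have hx' : (x : R) * σ (x : R) = 1 := congrArg Units.val hx
    obtain ⟨a, ha⟩ := exists_unit_twist σ hlam hx'
    refine ⟨ha.unit, ?_⟩
    change ha.unit * (su ha.unit)⁻¹ = x
    rw [mul_inv_eq_iff_eq_mul]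
    ext
    change a + ↑x * σ a = ↑x * σ (a + ↑x * σ a)
    rw [map_add, map_mul, hinv, mul_add, ← mul_assoc, hx', one_mul, add_comm]
  have hrange : Nm.range ≤ Dv.ker := by
    rintro _ ⟨z, rfl⟩
    rw [MonoidHom.mem_ker]
    change z * su z * (su (z * su z))⁻¹ = 1
    rw [mul_inv_eq_one, map_mul, show su (su z) = z from Units.ext (hinv _), mul_comm]
  have h1 := Subgroup.card_mul_index Nm.ker
  have h2 := Subgroup.card_mul_index Dv.ker
  rw [Subgroup.index_ker] at h1 h2
  have hle : Nat.card Dv.ker ≤ Nat.card Nm.range := by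
    have hkl : Nat.card Nm.ker ≤ Nat.card Dv.range :=
      Nat.card_le_card_of_injective _ (Subgroup.inclusion_injective hker)
    refine Nat.le_of_mul_le_mul_right ?_ (Nat.card_pos (α := Dv.range))
    calc Nat.card Dv.ker * Nat.card Dv.range = Nat.card Nm.ker * Nat.card Nm.range := h2.trans h1.symm
      _ ≤ Nat.card Dv.range * Nat.card Nm.range := Nat.mul_le_mul_right _ hkl
      _ = _ := mul_comm _ _
  have heq : Nm.range = Dv.ker := Subgroup.eq_of_le_of_card_ge hrange hle
  have hmem : hs.unit ∈ Dv.ker := by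
    rw [MonoidHom.mem_ker]
    change hs.unit * (su hs.unit)⁻¹ = 1
    rw [mul_inv_eq_one]
    exact Units.ext hfix.symm
  rw [← heq] at hmem
  obtain ⟨z, hz⟩ := hmem
  exact ⟨z, congrArg Units.val hz⟩

end CfsgLib.SpecUnitary
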