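import Mathlib
import Cfsg.Prelude.Def_Classical
import Cfsg.Agent.Lib.UnitaryEmbed.Herm
import Cfsg.Agent.Lib.UnitaryEmbed.HermSpace
import Cfsg.Agent.Lib.ClassicalGroups.HermGroup
import Cfsg.Agent.Lib.SpecLin.PSLOrders
import Cfsg.Agent.Lib.SpecLin.PrimeGraph

/-!
Unitary groups of even degree: the split embedding of `GL_m(q²) ` into `GU_2m(q)` and conjugate-reciprocal
minimal polynomials.
-/

set_option autoImplicit false

namespace CfsgLib.SpecUnitary

open Matrix Polynomial CfsgLib.SpecLin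

variable {F : Type*} [Field F] [Fintype F] {q : ℕ}

/-- `diag(A, B)` preserves the standard form when `(Aᵗ)^τ B = 1`. -/
theorem exists_split (hF : Fintype.card F = q ^ 2) {τ : F →+* F} (hτ : ∀ x, τ x = x ^ q)
    (hτne : τ ≠ RingHom.id F) (hτ2 : ∀ x, τ (τ x) = x) (m : ℕ) :
    ∃ Φ : Matrix (Fin m) (Fin m) F × Matrix (Fin m) (Fin m) F →* Matrix (Fin (m + m)) (Fin (m + m)) F,
      Function.Injective Φ ∧ (∀ A B, (Φ (A, B)).det = A.det * B.det) ∧
      (∀ c : F, Φ (c • 1, c • 1) = c • 1) ∧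
      ∀ A B, (A.map τ)ᵀ * B = 1 → ∀ u v,
        Cfsg.hermForm (m + m) F q (Φ (A, B) *ᵥ u) (Φ (A, B) *ᵥ v) = Cfsg.hermForm (m + m) F q u v := by
  classical
  let B₀ : ((Fin m → F) × (Fin m → F)) →ₛₗ[τ] ((Fin m → F) × (Fin m → F)) →ₗ[F] F := LinearMap.mk₂'ₛₗ τ (RingHom.id F)
    (fun v u => u.2 ⬝ᵥ (τ ∘ v.1) + u.1 ⬝ᵥ (τ ∘ v.2))
    (fun v v' u => by
      simp only [Prod.fst_add, Prod.snd_add, dotProduct, Function.comp_apply, Pi.add_apply, map_add,
        mul_add, Finset.sum_add_distrib]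
      ring)
    (fun c v u => by
      simp only [Prod.smul_fst, Prod.smul_snd, dotProduct, Function.comp_apply, Pi.smul_apply,
        smul_eq_mul, map_mul, Finset.mul_sum, mul_add]
      congr 1 <;> exact Finset.sum_congr rfl fun i _ => by ring)
    (fun v u u' => by
      simp only [Prod.fst_add, Prod.snd_add, add_dotProduct]
      ring)
    (fun c v u => by
      simp only [Prod.smul_fst, Prod.smul_snd, smul_dotProduct, RingHom.id_apply, smul_eq_mul]
      ring)
  have hS : ∀ u v, τ (B₀ u v) = B₀ v u := by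
    intro u v
    simp only [B₀, LinearMap.mk₂'ₛₗ_apply, dotProduct, Function.comp_apply, map_add, map_sum, map_mul,
      hτ2]
    rw [add_comm]
    congr 1 <;> exact Finset.sum_congr rfl fun i _ => mul_comm _ _
  have hB₀ : B₀.SeparatingLeft := by
    intro v hv
    refine Prod.ext (funext fun i => ?_) (funext fun i => ?_) <;> refine τ.injective ?_
    · simpa [B₀] using hv (0, Pi.single i 1)
    · simpa [B₀] using hv (Pi.single i 1, 0)
  obtain ⟨e, he⟩ := CfsgLib.UnitaryEmbed.exists_std_equiv hF τ hτ hτne hτ2 B₀ hS hB₀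
    (m := m + m) (by rw [Module.finrank_prod, Module.finrank_fin_fun])
  let Φ : Matrix (Fin m) (Fin m) F × Matrix (Fin m) (Fin m) F →* Matrix (Fin (m + m)) (Fin (m + m)) F :=
    { toFun := fun x => LinearMap.toMatrix'
        (e.symm.toLinearMap ∘ₗ ((Matrix.toLin' x.1).prodMap (Matrix.toLin' x.2)) ∘ₗ e.toLinearMap)
      map_one' := by
        have : (e.symm.toLinearMap ∘ₗ ((Matrix.toLin' (1 : Matrix (Fin m) (Fin m) F)).prodMap
            (Matrix.toLin' (1 : Matrix (Fin m) (Fin m) F))) ∘ₗ e.toLinearMap) = LinearMap.id :=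
          LinearMap.ext fun v => by simp
        simp only [Prod.fst_one, Prod.snd_one, this, LinearMap.toMatrix'_id]
      map_mul' := fun x y => by
        rw [← LinearMap.toMatrix'_comp]
        congr 1
        refine LinearMap.ext fun v => ?_
        simp [Matrix.mulVec_mulVec] }
  have hΦ : ∀ x v, Φ x *ᵥ v = e.symm (x.1 *ᵥ (e v).1, x.2 *ᵥ (e v).2) := fun x v => by
    simp only [Φ, MonoidHom.coe_mk, OneHom.coe_mk, LinearMap.toMatrix'_mulVec]
    rfl
  refine ⟨Φ, ?_, ?_, ?_, ?_⟩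
  · intro x y h
    have h' : ∀ w : (Fin m → F) × (Fin m → F), (x.1 *ᵥ w.1, x.2 *ᵥ w.2) = ((y.1 *ᵥ w.1, y.2 *ᵥ w.2) : (Fin m → F) × (Fin m → F)) := fun w => by
      refine e.symm.injective ?_
      have := congrArg (fun M => M *ᵥ e.symm w) h
      simpa [hΦ] using this
    refine Prod.ext (Matrix.ext_of_mulVec_single fun i => ?_) (Matrix.ext_of_mulVec_single fun i => ?_)
    · exact congrArg Prod.fst (h' (Pi.single i 1, 0))
    · exact congrArg Prod.snd (h' (0, Pi.single i 1))
  · intro A B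
    simp only [Φ, MonoidHom.coe_mk, OneHom.coe_mk, LinearMap.det_toMatrix']
    have := LinearMap.det_conj ((Matrix.toLin' A).prodMap (Matrix.toLin' B)) e.symm
    rw [LinearEquiv.symm_symm] at this
    rw [this, LinearMap.det_prodMap, LinearMap.det_toLin', LinearMap.det_toLin']
  · intro c
    refine Matrix.ext_of_mulVec_single fun i => ?_
    rw [hΦ, Matrix.smul_mulVec, Matrix.smul_mulVec, Matrix.one_mulVec, Matrix.one_mulVec,
      ← Prod.smul_mk, Prod.mk.eta, map_smul, LinearEquiv.symm_apply_apply, Matrix.smul_mulVec,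
      Matrix.one_mulVec]
  · intro A B hAB u v
    rw [← he, ← he, hΦ, hΦ, LinearEquiv.apply_symm_apply, LinearEquiv.apply_symm_apply]
    simp only [B₀, LinearMap.mk₂'ₛₗ_apply]
    have hτv : ∀ (M : Matrix (Fin m) (Fin m) F) (w : Fin m → F), τ ∘ (M *ᵥ w) = M.map τ *ᵥ (τ ∘ w) :=
      fun M w => funext fun i => RingHom.map_mulVec τ M w i
    have key : ∀ {M N : Matrix (Fin m) (Fin m) F}, (M.map τ)ᵀ * N = 1 → ∀ a b : Fin m → F,
        (N *ᵥ b) ⬝ᵥ (τ ∘ (M *ᵥ a)) = b ⬝ᵥ (τ ∘ a) := fun {M N} h a b => by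
      rw [hτv, Matrix.dotProduct_mulVec, ← Matrix.mulVec_transpose, Matrix.mulVec_mulVec, h,
        Matrix.one_mulVec]
    have hBA : (B.map τ)ᵀ * A = 1 := by
      have h2 := congrArg (fun M => (M.map τ)ᵀ) hAB
      simpa [Matrix.map_mul, Matrix.map_map, Function.comp_def, hτ2, Matrix.transpose_map] using h2
    rw [key hAB, key hBA]

section minpoly

variable {n : ℕ} {τ : F →+* F}

local notation "MM" => Matrix (Fin n) (Fin n) F

omit [Fintype F] in
theorem aeval_reflect_of_inv {M Mi : MM} (h : Mi * M = 1) (N : ℕ) (P : F[X]) (hP : P.natDegree ≤ N) :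
    aeval M (P.reflect N) = M ^ N * aeval Mi P := by
  refine induction_with_natDegree_le (fun P => aeval M (P.reflect N) = M ^ N * aeval Mi P) N ?_ ?_ ?_ P hP
  · simp
  · intro j r _ hjN
    rw [reflect_C_mul_X_pow, revAt_le hjN, map_mul, map_mul, map_pow, map_pow, aeval_X, aeval_X, aeval_C,
      aeval_C, Algebra.algebraMap_eq_smul_one, smul_mul_assoc, one_mul, smul_mul_assoc, one_mul,
      Algebra.mul_smul_comm]
    congr 1
    have hc : Commute M Mi := (mul_eq_one_comm.1 h).trans h.symm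
    conv_rhs => rw [← Nat.sub_add_cancel hjN]
    rw [pow_add, mul_assoc, ← hc.mul_pow, mul_eq_one_comm.1 h, one_pow, mul_one]
  · intro f g _ _ hf hg
    rw [reflect_add, map_add, map_add, hf, hg, mul_add]

omit [Fintype F] in
theorem aeval_map_transpose (M : MM) (P : F[X]) :
    aeval (M.map τ)ᵀ (P.map τ) = ((aeval M P).map τ)ᵀ := by
  induction P using Polynomial.induction_on' with
  | add P Q hP hQ =>
    rw [Polynomial.map_add, map_add, map_add, hP, hQ, Matrix.map_add _ (map_add τ),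
      Matrix.transpose_add]
  | monomial j a =>
    rw [Polynomial.map_monomial, aeval_monomial, aeval_monomial, Algebra.algebraMap_eq_smul_one,
      Algebra.algebraMap_eq_smul_one, smul_mul_assoc, one_mul, smul_mul_assoc, one_mul,
      Matrix.map_smul' (⇑τ) (r := a) (A := M ^ j) (map_mul τ), Matrix.transpose_smul,
      ← RingHom.mapMatrix_apply τ (M ^ j), map_pow, RingHom.mapMatrix_apply, Matrix.transpose_pow]

omit [Fintype F] in
/-- The conjugate reverse of a polynomial killing a unitary matrix kills it. -/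
theorem aeval_conj_reverse {M : MM} (hM : Mᵀ * M.map τ = 1) {P : F[X]} (hP : aeval M P = 0) :
    aeval M (P.map τ).reverse = 0 := by
  have hi : (M.map τ)ᵀ * M = 1 := by
    simpa using congrArg Matrix.transpose hM
  rw [reverse, aeval_reflect_of_inv hi _ _ le_rfl, aeval_map_transpose, hP]
  simp

/-- The two halves of the spectrum: a factor whose root has order divisible by `r`, with `q` of even
order modulo `r` or of odd order, is not conjugate-reciprocal. -/
theorem not_dvd_conj_reverse (hF : Fintype.card F = q ^ 2) (hτ : ∀ x, τ x = x ^ q) {φ : F[X]}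
    (hφ : Irreducible φ) (h0 : φ.coeff 0 ≠ 0) {r : ℕ} (hr : r ∣ orderOf (AdjoinRoot.root φ))
    (hno : ∀ i, ¬ r ∣ q ^ (2 * i + 1) + 1) : ¬ φ ∣ (φ.map τ).reverse := by
  classical
  intro hdvd
  have := Fact.mk hφ
  obtain ⟨p, hp⟩ := CharP.exists F
  have : Fact p.Prime := ⟨CharP.char_is_prime F p⟩
  let pb := AdjoinRoot.powerBasis hφ.ne_zero
  have : Module.Finite F (AdjoinRoot φ) := pb.finite
  have : Finite (AdjoinRoot φ) := Module.finite_of_finite F
  have : Fintype (AdjoinRoot φ) := Fintype.ofFinite _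
  set ρ := AdjoinRoot.root φ with hρ
  have hρ0 : ρ ≠ 0 := by
    rw [hρ, ← AdjoinRoot.mk_X]
    intro h
    exact h0 (X_dvd_iff.1 ((hφ.associated_of_dvd irreducible_X (AdjoinRoot.mk_eq_zero.1 h)).symm.dvd))
  set D := φ.natDegree
  have hcard : Fintype.card (AdjoinRoot φ) = q ^ (2 * D) := by
    rw [Module.card_eq_pow_finrank (K := F), pb.finrank, AdjoinRoot.powerBasis_dim, hF, ← pow_mul]
  have hD : 1 ≤ D := hφ.natDegree_pos
  -- `ρ⁻¹` is a root of the conjugate
  have h1 : aeval ρ (φ.map τ).reverse = 0 := by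
    obtain ⟨c, hc⟩ := hdvd
    rw [hc, map_mul, hρ, AdjoinRoot.aeval_eq φ, AdjoinRoot.mk_self, zero_mul]
  let : Invertible ρ⁻¹ := invertibleOfNonzero (inv_ne_zero hρ0)
  have h2 : aeval ρ⁻¹ (φ.map τ) = 0 := (eval₂_reverse_eq_zero_iff (algebraMap F (AdjoinRoot φ)) ρ⁻¹ _).1
    (by rw [invOf_eq_inv, inv_inv]; exact h1)
  -- a `q`-th root of `ρ⁻¹` is a root
  set y := ρ⁻¹ ^ q ^ (2 * D - 1) with hy
  have hyq : y ^ q = ρ⁻¹ := by
    rw [hy, ← pow_mul, ← pow_succ, show 2 * D - 1 + 1 = 2 * D by omega, ← hcard, FiniteField.pow_card]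
  obtain ⟨f, hfp, hf⟩ := FiniteField.card F p
  obtain ⟨e, -, he⟩ := (Nat.dvd_prime_pow hfp).1
    (show q ∣ p ^ (f : ℕ) from hf ▸ hF ▸ dvd_pow_self q two_ne_zero)
  have : CharP (AdjoinRoot φ) p := charP_of_injective_algebraMap (algebraMap F _).injective p
  have h3 : aeval y φ = 0 := by
    have hq0 : q ≠ 0 := by rintro rfl; simp at hF
    refine (pow_eq_zero_iff hq0).1 ?_
    rw [he, ← iterateFrobenius_def (R := AdjoinRoot φ) p e, aeval_def, hom_eval₂, iterateFrobenius_def,
      ← he, hyq]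
    have hcomp : (iterateFrobenius (AdjoinRoot φ) p e).comp (algebraMap F (AdjoinRoot φ)) =
        (algebraMap F (AdjoinRoot φ)).comp τ := RingHom.ext fun x => by
      rw [RingHom.comp_apply, RingHom.comp_apply, iterateFrobenius_def, hτ, he, map_pow]
    rw [hcomp, ← eval₂_map]
    exact h2
  let σ : AdjoinRoot φ →ₐ[F] AdjoinRoot φ :=
    AdjoinRoot.liftAlgHom φ (Algebra.ofId F (AdjoinRoot φ)) y h3
  let σ' : AdjoinRoot φ ≃ₐ[F] AdjoinRoot φ := AlgEquiv.ofBijective σ
    (Finite.injective_iff_bijective.1 σ.toRingHom.injective)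
  obtain ⟨i, hi⟩ := FiniteField.exists_forall_apply_eq_pow F p (AdjoinRoot φ) σ'
  have hyρ : y = ρ ^ (q ^ 2) ^ i := by
    rw [← hF, ← Nat.card_eq_fintype_card, ← hi]
    change y = σ ρ
    exact (AdjoinRoot.liftAlgHom_root φ (Algebra.ofId F (AdjoinRoot φ)) y h3).symm
  refine hno i (hr.trans (orderOf_dvd_of_pow_eq_one ?_))
  rw [pow_succ ρ, pow_succ q, pow_mul q 2 i, pow_mul ρ, ← hyρ, hyq, inv_mul_cancel₀ hρ0]

end minpoly

end CfsgLib.SpecUnitary
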