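import Mathlib
import Cfsg.Agent.Lib.SpecGL.DivisorTools
import Cfsg.Agent.Lib.SpecUnitary.InvolutiveRing
import Cfsg.Agent.Lib.SpecUnitary.ConjPoly
import Cfsg.Agent.Lib.SpecUnitary.Split

/-!
Unitary matrices up to unitary conjugacy: the elementary divisors determine the class (Wall), they are
invariant under conjugate-reciprocal, and determinants of unitary centralisers.
-/

set_option autoImplicit false

namespace CfsgLib.SpecUnitary

open Polynomial Matrix CfsgLib.SpecGL

universe u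

variable {F : Type u} [Field F] {n : ℕ} {τ : F →+* F}

local notation "MM" => Matrix (Fin n) (Fin n) F

/-- conjugate transpose -/
def conjT (τ : F →+* F) (M : Matrix (Fin n) (Fin n) F) : Matrix (Fin n) (Fin n) F := (M.map τ)ᵀ

theorem conjT_mul (M N : MM) : conjT τ (M * N) = conjT τ N * conjT τ M := by
  rw [conjT, conjT, conjT, Matrix.map_mul, Matrix.transpose_mul]

theorem conjT_one : conjT τ (1 : MM) = 1 := by
  rw [conjT, Matrix.map_one _ (map_zero τ) (map_one τ), Matrix.transpose_one]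

theorem conjT_conjT (hτ2 : ∀ x, τ (τ x) = x) (M : MM) : conjT τ (conjT τ M) = M := by
  ext i j
  simp [conjT, hτ2]

theorem det_conjT (M : MM) : (conjT τ M).det = τ M.det := by
  rw [conjT, Matrix.det_transpose, RingHom.map_det, RingHom.mapMatrix_apply]

theorem conjT_inv {M : MM} (h : IsUnit M.det) : conjT τ M⁻¹ = (conjT τ M)⁻¹ := by
  symm
  apply Matrix.inv_eq_right_inv
  rw [← conjT_mul, Matrix.nonsing_inv_mul _ h, conjT_one]

theorem aeval_intertwine {A : MM} {ι : Type u} [Fintype ι] {d : ι → F[X] × ℕ}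
    (Ψ : (Fin n → F) ≃ₗ[F] ((i : ι) → F[X] ⧸ Ideal.span {(d i).1 ^ (d i).2}))
    (hΨ : ∀ v, Ψ (A *ᵥ v) = (X : F[X]) • Ψ v) (P : F[X]) :
    ∀ v, Ψ ((aeval A P) *ᵥ v) = P • Ψ v := by
  induction P using Polynomial.induction_on with
  | C a =>
    intro v
    rw [aeval_C, Algebra.algebraMap_eq_smul_one, Matrix.smul_mulVec, Matrix.one_mulVec, map_smul,
      ← Polynomial.algebraMap_eq]
    exact (algebraMap_smul F[X] a (Ψ v)).symm
  | add P Q hP hQ =>
    intro v
    rw [map_add, Matrix.add_mulVec, map_add, hP, hQ]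
    exact (add_smul P Q (Ψ v)).symm
  | monomial k a ih =>
    intro v
    rw [pow_succ, ← mul_assoc, map_mul, aeval_X, ← Matrix.mulVec_mulVec, ih, hΨ, ← mul_smul]

section finite

variable [Fintype F]

theorem natCard_ker_aeval {A : MM} {s : Multiset (F[X] × ℕ)} (hs : GoodDivisors s)
    (h : HasDivisors A s) {p : F[X]} (hm : p.Monic) (hp : Irreducible p) (j : ℕ) :
    Nat.card {v : Fin n → F // (aeval A (p ^ j)) *ᵥ v = 0} =
      Fintype.card F ^ (p.natDegree * levelSum p s j) := by
  classical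
  obtain ⟨ι, _, d, hd, Ψ, hΨ⟩ := exists_intertwine h
  have hmem : ∀ i, d i ∈ s := fun i => hd ▸ Multiset.mem_map_of_mem d (Finset.mem_univ_val i)
  rw [Nat.card_congr (Ψ.toEquiv.subtypeEquiv (p := fun v => (aeval A (p ^ j)) *ᵥ v = 0)
    (q := fun y => ∀ i, p ^ j • y i = 0) fun v => by
      change _ ↔ ∀ i, p ^ j • Ψ v i = 0
      rw [← Ψ.map_eq_zero_iff, aeval_intertwine Ψ hΨ]
      exact funext_iff),
    Nat.card_congr (Equiv.subtypePiEquivPi (p := fun i (z : F[X] ⧸ Ideal.span {(d i).1 ^ (d i).2}) =>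
      p ^ j • z = 0)), Nat.card_pi]
  rw [Finset.prod_congr rfl fun i _ =>
      natCard_killed hp hm (hs _ (hmem i)).2.1 (hs _ (hmem i)).1 (d i).2 j,
    Finset.prod_pow_eq_pow_sum, ← Finset.mul_sum, ← hd, levelSum, Multiset.map_map]
  congr 2
  exact Finset.sum_congr rfl fun i _ => by simp only [Function.comp_apply]; split_ifs <;> rfl

theorem natCard_ker_eq_rank (M : MM) :
    Nat.card {v : Fin n → F // M *ᵥ v = 0} = Fintype.card F ^ (n - M.rank) := by
  classical
  have h := LinearMap.finrank_range_add_finrank_ker M.mulVecLin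
  rw [Module.finrank_fin_fun] at h
  have hk : Nat.card {v : Fin n → F // M *ᵥ v = 0} = Nat.card (LinearMap.ker M.mulVecLin) :=
    Nat.card_congr (Equiv.subtypeEquivRight fun v => by rw [LinearMap.mem_ker, Matrix.mulVecLin_apply])
  haveI : Fintype (LinearMap.ker M.mulVecLin) := Fintype.ofFinite _
  rw [hk, Nat.card_eq_fintype_card, Module.card_eq_pow_finrank (K := F)]
  congr 1
  rw [Matrix.rank]
  omega

theorem natCard_ker_conjT (hτ2 : ∀ x, τ (τ x) = x) (M : MM) :
    Nat.card {v : Fin n → F // conjT τ M *ᵥ v = 0} = Nat.card {v : Fin n → F // M *ᵥ v = 0} := by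
  have h1 : Nat.card {v : Fin n → F // (M.map τ) *ᵥ v = 0} = Nat.card {v : Fin n → F // M *ᵥ v = 0} := by
    let e : (Fin n → F) ≃ (Fin n → F) :=
      { toFun := fun v => τ ∘ v, invFun := fun v => τ ∘ v,
        left_inv := fun v => funext fun i => hτ2 _, right_inv := fun v => funext fun i => hτ2 _ }
    refine Nat.card_congr (e.subtypeEquiv fun v => ?_).symm
    have he : (M.map τ) *ᵥ (e v) = τ ∘ (M *ᵥ v) := funext fun i => by
      simp [e, Matrix.mulVec, dotProduct, map_sum]
    rw [he]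
    constructor
    · intro h; rw [h]; exact funext fun i => map_zero τ
    · intro h
      refine funext fun i => ?_
      have := congrFun h i
      exact (map_eq_zero τ).1 this
  rw [← h1, natCard_ker_eq_rank, natCard_ker_eq_rank, conjT, Matrix.rank_transpose]

theorem divisors_conjRev_invariant (hτ2 : ∀ x, τ (τ x) = x) {A : MM} (hA : conjT τ A * A = 1)
    {s : Multiset (F[X] × ℕ)} (hs : GoodDivisors s) (h : HasDivisors A s) :
    s.map (fun x => (conjRev τ x.1, x.2)) = s := by
  classical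
  have hlev : ∀ p : F[X], p.Monic → Irreducible p → p.coeff 0 ≠ 0 → ∀ j,
      levelSum (conjRev τ p) s j = levelSum p s j := by
    intro p hm hp h0 j
    have hker : Nat.card {v : Fin n → F // (aeval A (conjRev τ p ^ j)) *ᵥ v = 0} =
        Nat.card {v : Fin n → F // (aeval A (p ^ j)) *ᵥ v = 0} := by
      rw [← conjRev_pow, ← natCard_ker_conjT hτ2 (aeval A (p ^ j))]
      have hunit : IsUnit (τ ((p ^ j).coeff 0))⁻¹ := by
        refine isUnit_iff_ne_zero.2 (inv_ne_zero ((map_ne_zero τ).2 ?_))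
        rw [coeff_zero_eq_eval_zero, eval_pow, ← coeff_zero_eq_eval_zero]
        exact pow_ne_zero _ h0
      rw [conjRev, map_mul, aeval_C, reverse, aeval_reflect_of_inv (Mi := conjT τ A) hA _ _ le_rfl,
        show aeval (conjT τ A) ((p ^ j).map τ) = conjT τ (aeval A (p ^ j)) from aeval_map_transpose A _]
      refine Nat.card_congr (Equiv.subtypeEquivRight fun v => ?_)
      rw [← mul_assoc, ← Matrix.mulVec_mulVec]
      have hinj : Function.Injective
          ((algebraMap F MM (τ ((p ^ j).coeff 0))⁻¹ * A ^ ((p ^ j).map τ).natDegree).mulVec) :=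
        Matrix.mulVec_injective_iff_isUnit.2 ((hunit.map (algebraMap F MM)).mul
          ((isUnit_iff_exists_inv'.2 ⟨_, hA⟩).pow _))
      exact ⟨fun hv => hinj (hv.trans (Matrix.mulVec_zero _).symm),
        fun hv => by rw [hv, Matrix.mulVec_zero]⟩
    rw [natCard_ker_aeval hs h (monic_conjRev h0) (irreducible_conjRev hτ2 hm h0 hp),
      natCard_ker_aeval hs h hm hp, natDegree_conjRev h0] at hker
    exact Nat.eq_of_mul_eq_mul_left hp.natDegree_pos (Nat.pow_right_injective Fintype.one_lt_card hker)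
  have hcount : ∀ x ∈ s, s.count (conjRev τ x.1, x.2) = s.count x := by
    intro x hx
    obtain ⟨hm, hp, h0, he⟩ := hs x hx
    obtain ⟨j, hj⟩ : ∃ j, x.2 = j + 1 := ⟨x.2 - 1, by omega⟩
    have h1 := levelSum_count x.1 j s
    have h2 := levelSum_count (conjRev τ x.1) j s
    rw [hlev x.1 hm hp h0, hlev x.1 hm hp h0, hlev x.1 hm hp h0] at h2
    rw [show x = (x.1, j + 1) from Prod.ext rfl hj]
    simp only
    omega
  refine Multiset.ext.2 fun y => ?_
  rw [Multiset.count_map]
  by_cases hy : y.1.Monic ∧ y.1.coeff 0 ≠ 0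
  · have hfilt : (s.filter fun a => y = (conjRev τ a.1, a.2)) =
        s.filter fun a => (conjRev τ y.1, y.2) = a := by
      refine Multiset.filter_congr fun a ha => ⟨fun hya => ?_, fun hya => ?_⟩
      · rw [hya]; exact Prod.ext (conjRev_conjRev hτ2 (hs a ha).1 (hs a ha).2.2.1) rfl
      · rw [← hya]; exact Prod.ext (conjRev_conjRev hτ2 hy.1 hy.2).symm rfl
    rw [hfilt, ← Multiset.count_eq_card_filter_eq]
    by_cases hys : y ∈ s
    · exact hcount y hys
    · rw [Multiset.count_eq_zero.2 hys]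
      by_contra hne
      have hmem : (conjRev τ y.1, y.2) ∈ s := Multiset.count_ne_zero.1 hne
      have h2 := hcount _ hmem
      rw [show ((conjRev τ (conjRev τ y.1), y.2) : F[X] × ℕ) = y from
        Prod.ext (conjRev_conjRev hτ2 hy.1 hy.2) rfl, Multiset.count_eq_zero.2 hys] at h2
      exact hne h2.symm
  · rw [Multiset.count_eq_zero.2 fun hm => hy ⟨(hs y hm).1, (hs y hm).2.2.1⟩, Multiset.card_eq_zero,
      Multiset.filter_eq_nil]
    intro a ha hya
    exact hy ⟨hya ▸ monic_conjRev (hs a ha).2.2.1,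
      hya ▸ coeff_zero_conjRev_ne (hs a ha).1 (hs a ha).2.2.1⟩

/-- A self-adjoint invertible matrix is `T* T` for a polynomial `T` in it. -/
theorem exists_polar (hτne : τ ≠ RingHom.id F) (hτ2 : ∀ x, τ (τ x) = x) {S : MM}
    (hS : conjT τ S = S) (hunit : IsUnit S) :
    ∃ f : F[X], conjT τ (aeval S f) * aeval S f = S := by
  classical
  let Φ : F[X] →+* MM := (aeval S : F[X] →ₐ[F] MM).toRingHom
  have hstar : ∀ f : F[X], aeval S (f.map τ) = conjT τ (aeval S f) := fun f => by
    have h : aeval (conjT τ S) (f.map τ) = conjT τ (aeval S f) := aeval_map_transpose S f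
    rwa [hS] at h
  let I : Ideal F[X] := RingHom.ker Φ
  let R := F[X] ⧸ I
  haveI : Finite R := Finite.of_injective _ (RingHom.kerLift_injective Φ)
  let σ : R →+* R := Ideal.quotientMap I (Polynomial.mapRingHom τ) fun f hf => by
    rw [RingHom.mem_ker] at hf
    rw [Ideal.mem_comap, RingHom.mem_ker]
    change aeval S (f.map τ) = 0
    rw [hstar, show aeval S f = 0 from hf, conjT, Matrix.map_zero _ (map_zero τ), Matrix.transpose_zero]
  have hσ : ∀ f, σ (Ideal.Quotient.mk I f) = Ideal.Quotient.mk I (f.map τ) := fun f => rfl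
  have hσσ : ∀ r, σ (σ r) = r := fun r => by
    obtain ⟨f, rfl⟩ := Ideal.Quotient.mk_surjective r
    rw [hσ, hσ, Polynomial.map_map, show τ.comp τ = RingHom.id F from RingHom.ext hτ2, Polynomial.map_id]
  obtain ⟨l, hl⟩ : ∃ l, τ l ≠ l := by
    by_contra h; push Not at h; exact hτne (RingHom.ext h)
  have hlam : IsUnit ((Ideal.Quotient.mk I (C l) : R) - σ (Ideal.Quotient.mk I (C l))) := by
    rw [hσ, Polynomial.map_C, ← map_sub, ← map_sub]
    exact (isUnit_C.2 (isUnit_iff_ne_zero.2 (sub_ne_zero.2 (Ne.symm hl)))).map _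
  have hXu : IsUnit (Ideal.Quotient.mk I X : R) := by
    have hinj : Function.Injective fun r : R => Ideal.Quotient.mk I X * r := by
      intro a b hab
      obtain ⟨f, rfl⟩ := Ideal.Quotient.mk_surjective a
      obtain ⟨g, rfl⟩ := Ideal.Quotient.mk_surjective b
      simp only [← map_mul] at hab
      rw [Ideal.Quotient.mk_eq_mk_iff_sub_mem, RingHom.mem_ker] at hab ⊢
      rw [← mul_sub, map_mul, show Φ X = S from aeval_X S] at hab
      exact hunit.mul_right_eq_zero.1 hab
    obtain ⟨r, hr⟩ := (Finite.injective_iff_surjective.1 hinj) 1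
    exact isUnit_iff_exists_inv.2 ⟨r, hr⟩
  have hXfix : σ (Ideal.Quotient.mk I X) = Ideal.Quotient.mk I X := by
    rw [hσ, Polynomial.map_X]
  obtain ⟨z, hz⟩ := exists_mul_conj_eq σ hσσ hlam hXu hXfix
  obtain ⟨f, rfl⟩ := Ideal.Quotient.mk_surjective z
  refine ⟨f, ?_⟩
  rw [hσ, ← map_mul] at hz
  rw [Ideal.Quotient.mk_eq_mk_iff_sub_mem, RingHom.mem_ker, map_sub, sub_eq_zero] at hz
  rw [← hstar, ← map_mul, mul_comm]
  exact hz.trans (aeval_X S)

theorem commute_aeval {A S : MM} (h : S * A = A * S) (f : F[X]) : aeval S f * A = A * aeval S f := by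
  induction f using Polynomial.induction_on' with
  | add f g hf hg => rw [map_add, add_mul, mul_add, hf, hg]
  | monomial k a =>
    rw [aeval_monomial, mul_assoc, (Commute.pow_left h k).eq, ← mul_assoc, Algebra.commutes, mul_assoc]

/-- Wall: unitary matrices similar in `GL` are unitarily similar. -/
theorem exists_unitary_conj (hτne : τ ≠ RingHom.id F) (hτ2 : ∀ x, τ (τ x) = x) {A A' P : MM}
    (hA : conjT τ A * A = 1) (hA' : conjT τ A' * A' = 1) (hP : IsUnit P.det) (h : P * A = A' * P) :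
    ∃ Q : MM, conjT τ Q * Q = 1 ∧ Q * A = A' * Q := by
  have hA2 : A * conjT τ A = 1 := mul_eq_one_comm.1 hA
  have h' : conjT τ A * conjT τ P = conjT τ P * conjT τ A' := by rw [← conjT_mul, ← conjT_mul, h]
  have hPA : conjT τ P * A' = A * conjT τ P := by
    calc conjT τ P * A' = A * (conjT τ A * conjT τ P) * A' := by
          rw [← mul_assoc A, hA2, one_mul]
      _ = _ := by rw [h', mul_assoc, mul_assoc, hA', mul_one]
  have hS : conjT τ (conjT τ P * P) = conjT τ P * P := by rw [conjT_mul, conjT_conjT hτ2]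
  have hSdet : IsUnit (conjT τ P * P).det := by
    rw [Matrix.det_mul, det_conjT]; exact (hP.map τ).mul hP
  have hSA : (conjT τ P * P) * A = A * (conjT τ P * P) := by
    rw [mul_assoc, h, ← mul_assoc, hPA, mul_assoc]
  obtain ⟨f, hf⟩ := exists_polar hτne hτ2 hS ((Matrix.isUnit_iff_isUnit_det _).2 hSdet)
  set T := aeval (conjT τ P * P) f
  have hT : IsUnit T.det := by
    rw [← hf, Matrix.det_mul] at hSdet; exact isUnit_of_mul_isUnit_right hSdet
  have hT' : IsUnit (conjT τ T).det := by rw [det_conjT]; exact hT.map τ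
  have hTA : T * A = A * T := commute_aeval hSA f
  refine ⟨P * T⁻¹, ?_, ?_⟩
  · rw [conjT_mul, conjT_inv hT,
      show (conjT τ T)⁻¹ * conjT τ P * (P * T⁻¹) = (conjT τ T)⁻¹ * (conjT τ P * P) * T⁻¹ by
        simp only [mul_assoc], ← hf,
      ← mul_assoc, Matrix.nonsing_inv_mul _ hT', one_mul, Matrix.mul_nonsing_inv _ hT]
  · have hTi : T⁻¹ * A = A * T⁻¹ := by
      calc T⁻¹ * A = T⁻¹ * (A * T) * T⁻¹ := by
            rw [mul_assoc, mul_assoc, Matrix.mul_nonsing_inv _ hT, mul_one]
        _ = _ := by rw [← hTA, ← mul_assoc, Matrix.nonsing_inv_mul _ hT, one_mul]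
    rw [mul_assoc, hTi, ← mul_assoc, h, mul_assoc]

/-- Determinants of unitary centralisers. -/
theorem exists_unitary_commute_det (hτne : τ ≠ RingHom.id F) (hτ2 : ∀ x, τ (τ x) = x) {A Q : MM}
    (hA : conjT τ A * A = 1) (hQA : Q * A = A * Q) (hQ : Q.det ≠ 0) :
    ∃ V : MM, conjT τ V * V = 1 ∧ V * A = A * V ∧ V.det = Q.det * (τ Q.det)⁻¹ := by
  have hA2 : A * conjT τ A = 1 := mul_eq_one_comm.1 hA
  have h' : conjT τ Q * conjT τ A = conjT τ A * conjT τ Q := by rw [← conjT_mul, ← conjT_mul, hQA]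
  have hQsA : conjT τ Q * A = A * conjT τ Q := by
    calc conjT τ Q * A = A * (conjT τ A * conjT τ Q) * A := by rw [← mul_assoc A, hA2, one_mul]
      _ = _ := by rw [← h', mul_assoc, mul_assoc, hA, mul_one]
  have hS : conjT τ (conjT τ Q * Q) = conjT τ Q * Q := by rw [conjT_mul, conjT_conjT hτ2]
  have hSdet : IsUnit (conjT τ Q * Q).det := by
    rw [Matrix.det_mul, det_conjT]
    exact isUnit_iff_ne_zero.2 (mul_ne_zero ((map_ne_zero τ).2 hQ) hQ)
  have hSA : (conjT τ Q * Q) * A = A * (conjT τ Q * Q) := by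
    rw [mul_assoc, hQA, ← mul_assoc, hQsA, mul_assoc]
  obtain ⟨f, hf⟩ := exists_polar hτne hτ2 hS ((Matrix.isUnit_iff_isUnit_det _).2 hSdet)
  set S := conjT τ Q * Q with hSdef
  set T := aeval S f with hTdef
  have hTstar : conjT τ T = aeval S (f.map τ) := by
    have h : aeval (conjT τ S) (f.map τ) = conjT τ (aeval S f) := aeval_map_transpose S f
    rw [hS] at h
    exact h.symm
  have hTdet : IsUnit T.det := by
    rw [← hf, Matrix.det_mul] at hSdet; exact isUnit_of_mul_isUnit_right hSdet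
  have hT' : IsUnit (conjT τ T).det := by rw [det_conjT]; exact hTdet.map τ
  have hcomm : conjT τ T * T = T * conjT τ T := by
    rw [hTstar, hTdef, ← map_mul, ← map_mul, mul_comm]
  have hinvA : ∀ M : MM, IsUnit M.det → M * A = A * M → M⁻¹ * A = A * M⁻¹ := fun M hM hMA => by
    calc M⁻¹ * A = M⁻¹ * (A * M) * M⁻¹ := by
          rw [mul_assoc, mul_assoc, Matrix.mul_nonsing_inv _ hM, mul_one]
      _ = _ := by rw [← hMA, ← mul_assoc, Matrix.nonsing_inv_mul _ hM, one_mul]
  set U := Q * T⁻¹ with hU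
  set W := T * (conjT τ T)⁻¹ with hW
  have hUu : conjT τ U * U = 1 := by
    rw [hU, conjT_mul, conjT_inv hTdet,
      show (conjT τ T)⁻¹ * conjT τ Q * (Q * T⁻¹) = (conjT τ T)⁻¹ * S * T⁻¹ by
        simp only [hSdef, mul_assoc], ← hf,
      ← mul_assoc, Matrix.nonsing_inv_mul _ hT', one_mul, Matrix.mul_nonsing_inv _ hTdet]
  have hWu : conjT τ W * W = 1 := by
    rw [hW, conjT_mul, conjT_inv hT', conjT_conjT hτ2,
      show T⁻¹ * conjT τ T * (T * (conjT τ T)⁻¹) = T⁻¹ * (conjT τ T * T) * (conjT τ T)⁻¹ by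
        simp only [mul_assoc], hcomm,
      ← mul_assoc, Matrix.nonsing_inv_mul _ hTdet, one_mul, Matrix.mul_nonsing_inv _ hT']
  have hUA : U * A = A * U := by
    rw [hU, mul_assoc, hinvA T hTdet (commute_aeval hSA f), ← mul_assoc, hQA, mul_assoc]
  have hWA : W * A = A * W := by
    have h1 := hinvA (conjT τ T) hT' (by rw [hTstar]; exact commute_aeval hSA _)
    rw [hW, mul_assoc, h1, ← mul_assoc, hTdef, commute_aeval hSA f, mul_assoc]
  refine ⟨U * U * W, ?_, ?_, ?_⟩
  · have hmul : ∀ a b : MM, conjT τ a * a = 1 → conjT τ b * b = 1 → conjT τ (a * b) * (a * b) = 1 :=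
      fun a b ha hb => by
        rw [conjT_mul, mul_assoc, ← mul_assoc (conjT τ a), ha, one_mul, hb]
    exact hmul _ _ (hmul _ _ hUu hUu) hWu
  · exact Commute.mul_left (Commute.mul_left hUA hUA) hWA
  · have hdS : τ T.det * T.det = τ Q.det * Q.det := by
      rw [← det_conjT, ← det_conjT, ← Matrix.det_mul, ← Matrix.det_mul, hf]
    have hT0 : T.det ≠ 0 := hTdet.ne_zero
    have hτT0 : τ T.det ≠ 0 := (map_ne_zero τ).2 hT0
    have hτQ0 : τ Q.det ≠ 0 := (map_ne_zero τ).2 hQ
    have hdU : U.det = Q.det * (T.det)⁻¹ := by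
      rw [hU, Matrix.det_mul, Matrix.det_nonsing_inv, Ring.inverse_eq_inv']
    have hdW : W.det = T.det * (τ T.det)⁻¹ := by
      rw [hW, Matrix.det_mul, Matrix.det_nonsing_inv, det_conjT, Ring.inverse_eq_inv']
    rw [Matrix.det_mul, Matrix.det_mul, hdU, hdW]
    field_simp
    linear_combination -hdS

end finite

end CfsgLib.SpecUnitary
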