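import Cfsg.Agent.Lib.SpecUnitary.RootTwist

/-!
`PSU_n(q)`: every element is extendable by a prime `r ∣ q + 1`, divides the Singer bound, or is
regular unipotent with `n - 1` a power of `p`.
-/

set_option autoImplicit false
set_option linter.unusedSectionVars false

namespace CfsgLib.PSUTwist

open Polynomial Matrix CfsgLib.SemisimpleClass CfsgLib.CharBound.SUn

variable {F : Type*} [Field F] [Fintype F] {n q : ℕ} (hF : Fintype.card F = q ^ 2)
  (p : ℕ) [Fact p.Prime] [CharP F p]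
include hF p

local notation "KK" => AlgebraicClosure F
local notation "SUq" => Cfsg.SU n F q
local notation "PSUq" => Cfsg.PSU n F q
local notation "ι" => algebraMap F (AlgebraicClosure F)

theorem dvd_card_prime : p ∣ q := by
  obtain ⟨e, he, hqe⟩ := CfsgLib.PSU3Spectrum.exists_exp hF p
  exact hqe ▸ dvd_pow_self p (by omega)

theorem torusN_pos {D : ℕ} (hD : 1 ≤ D) : 0 < torusN q D := by
  rcases Nat.eq_zero_or_pos (torusN q D) with h | h
  · exact absurd (h ▸ dvd_zero p) (not_dvd_torusN (Fact.out : p.Prime) (dvd_card_prime hF p) hD)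
  · exact h

theorem exists_root (T : ℕ) (hT : 0 < T) (hpT : ¬ p ∣ T) : ∃ z : KK, orderOf z = T := by
  have : CharP KK p := charP_of_injective_algebraMap' F p
  have : NeZero (T : KK) := ⟨fun h => hpT ((CharP.cast_eq_zero_iff KK p T).1 h)⟩
  have : NeZero T := ⟨hT.ne'⟩
  obtain ⟨z, hz⟩ := HasEnoughRootsOfUnity.exists_primitiveRoot KK T
  exact ⟨z, hz.eq_orderOf.symm⟩

theorem exists_torus_orb {D : ℕ} (hD : 1 ≤ D) :
    ∃ z : KK, z ≠ 0 ∧ orderOf z = torusN q D ∧ (orb q z D).map (tau q) = orb q z D ∧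
      (orb q z D).prod = 1 := by
  obtain ⟨z, hz⟩ := exists_root hF p (torusN q D) (torusN_pos hF p hD)
    (not_dvd_torusN (Fact.out : p.Prime) (dvd_card_prime hF p) hD)
  have h1 : z ^ torusN q D = 1 := hz ▸ pow_orderOf_eq_one z
  have hz0 : z ≠ 0 := fun h => by
    rw [h, zero_pow (torusN_pos hF p hD).ne'] at h1; exact zero_ne_one h1
  refine ⟨z, hz0, hz, orb_closed ((periodic_iff hz0 D).2 (by rw [pow_mul, h1, one_pow])), ?_⟩
  rw [orb_prod hz0, zpow_eq_one_iff_natAbs]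
  exact h1

open scoped Classical in
/-- Twist a splitting of the eigenvalues. -/
theorem exists_twist (hn : 1 ≤ n) {A B : Multiset KK} (hA : A.map (tau q) = A) (hB : B.map (tau q) = B)
    (hA0 : A ≠ 0) (hB0 : B ≠ 0) (hcard : (A + B).card = n) (hprod : (A + B).prod = 1)
    {r : ℕ} (hr : r.Prime) (hrq : r ∣ q + 1) (hrn : ¬ r ∣ n) {o₀ : ℕ} (ho₀ : ¬ r ∣ o₀)
    (hAB : ∀ x ∈ A, ∀ y ∈ B, x ^ o₀ = y ^ o₀) :
    ∃ (g : PSUq) (v : ℕ) (s : KK), r ∣ orderOf g ∧ p ^ v ∣ orderOf g ∧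
      (∀ x ∈ A, x ^ orderOf g = s ∧ A.count x ≤ p ^ v) ∧
      (∀ y ∈ B, y ^ orderOf g = s ∧ B.count y ≤ p ^ v) := by
  have hp : p.Prime := Fact.out
  have hrp : ¬ p ∣ r := fun h => by
    have h1 : r ∣ q := (Nat.prime_dvd_prime_iff_eq hp hr).1 h ▸ dvd_card_prime hF p
    exact hr.not_dvd_one ((Nat.dvd_add_right h1).1 hrq)
  obtain ⟨ζ, hζ⟩ := exists_root hF p r hr.pos hrp
  have hζr : ζ ^ r = 1 := hζ ▸ pow_orderOf_eq_one ζ
  have hζ0 : ζ ≠ 0 := fun h => by rw [h, zero_pow hr.ne_zero] at hζr; exact zero_ne_one hζr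
  have hζq : ζ ^ (q + 1) = 1 := orderOf_dvd_iff_pow_eq_one.1 (hζ ▸ hrq)
  set a := A.card
  set b := B.card
  have hab : a + b = n := by rw [← hcard, Multiset.card_add]
  set α := ζ ^ b with hα
  set β := (ζ ^ a)⁻¹ with hβ
  have hαq : α ^ (q + 1) = 1 := by rw [hα, ← pow_mul, mul_comm, pow_mul, hζq, one_pow]
  have hβq : β ^ (q + 1) = 1 := by
    rw [hβ, inv_pow, ← pow_mul, mul_comm, pow_mul, hζq, one_pow, inv_one]
  have hα0 : α ≠ 0 := pow_ne_zero _ hζ0
  have hβ0 : β ≠ 0 := inv_ne_zero (pow_ne_zero _ hζ0)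
  have hS : (A.map (fun x => x * α) + B.map fun x => x * β).prod = 1 := by
    rw [Multiset.prod_add, prod_scale, prod_scale, mul_mul_mul_comm, ← Multiset.prod_add, hprod, one_mul,
      hα, hβ, ← pow_mul, inv_pow, ← pow_mul, mul_comm b a, mul_inv_cancel₀ (pow_ne_zero _ hζ0)]
  obtain ⟨g, v, s, hv, -, -, hg⟩ := exists_elem hF p hn
    (S := A.map (fun x => x * α) + B.map fun x => x * β) (by simp [← hab, a, b])
    (closed_add (closed_scale hA hαq) (closed_scale hB hβq)) hS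
  set o := orderOf g
  have hxA : ∀ x ∈ A, (x * α) ^ o = s ∧ A.count x ≤ p ^ v := fun x hx => by
    have h := hg (x * α) (Multiset.mem_add.2 (Or.inl (Multiset.mem_map_of_mem _ hx)))
    refine ⟨h.1, le_trans ?_ h.2⟩
    rw [Multiset.count_add, Multiset.count_map_eq_count' _ _ (mul_left_injective₀ hα0)]
    exact Nat.le_add_right _ _
  have hyB : ∀ y ∈ B, (y * β) ^ o = s ∧ B.count y ≤ p ^ v := fun y hy => by
    have h := hg (y * β) (Multiset.mem_add.2 (Or.inr (Multiset.mem_map_of_mem _ hy)))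
    refine ⟨h.1, le_trans ?_ h.2⟩
    rw [Multiset.count_add, Multiset.count_map_eq_count' _ _ (mul_left_injective₀ hβ0)]
    exact Nat.le_add_left _ _
  obtain ⟨x, hx⟩ := Multiset.exists_mem_of_ne_zero hA0
  obtain ⟨y, hy⟩ := Multiset.exists_mem_of_ne_zero hB0
  have hx0 : x ≠ 0 := fun h => zero_ne_one
    (show (0 : KK) = 1 by rw [← hprod, Multiset.prod_eq_zero (h ▸ Multiset.mem_add.2 (Or.inl hx))])
  have hαβ : ζ ^ (n * o * o₀) = 1 := by
    have h := congrArg (· ^ o₀) ((hxA x hx).1.trans (hyB y hy).1.symm)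
    simp only [mul_pow, ← pow_mul] at h
    rw [mul_comm o o₀, pow_mul x, pow_mul y, ← hAB x hx y hy] at h
    have h1 := mul_left_cancel₀ (pow_ne_zero o (pow_ne_zero o₀ hx0)) h
    rw [hα, hβ, inv_pow, ← pow_mul, ← pow_mul] at h1
    rw [← hab, show (a + b) * o * o₀ = b * (o₀ * o) + a * (o₀ * o) by ring, pow_add, h1,
      inv_mul_cancel₀ (pow_ne_zero _ hζ0)]
  have hro : r ∣ o := by
    have h := hζ ▸ orderOf_dvd_of_pow_eq_one hαβ
    rcases (Nat.Prime.dvd_mul hr).1 h with h | h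
    · exact ((Nat.Prime.dvd_mul hr).1 h).resolve_left hrn
    · exact absurd h ho₀
  have hζo : ζ ^ o = 1 := orderOf_dvd_iff_pow_eq_one.1 (hζ ▸ hro)
  have hαo : α ^ o = 1 := by rw [hα, ← pow_mul, mul_comm, pow_mul, hζo, one_pow]
  have hβo : β ^ o = 1 := by rw [hβ, inv_pow, ← pow_mul, mul_comm, pow_mul, hζo, one_pow, inv_one]
  refine ⟨g, v, s, hro, hv, fun x hx => ?_, fun y hy => ?_⟩
  · obtain ⟨h1, h2⟩ := hxA x hx
    rw [mul_pow, hαo, mul_one] at h1
    exact ⟨h1, h2⟩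
  · obtain ⟨h1, h2⟩ := hyB y hy
    rw [mul_pow, hβo, mul_one] at h1
    exact ⟨h1, h2⟩

theorem pow_dvd_of_lt {k c v o : ℕ} (hk : c = 0 ∨ p ^ (c - 1) < k) (hv : k ≤ p ^ v) (ho : p ^ v ∣ o) :
    p ^ c ∣ o := by
  refine (Nat.pow_dvd_pow p ?_).trans ho
  rcases hk with rfl | hk
  · omega
  · have := (Nat.pow_lt_pow_iff_right (Fact.out : p.Prime).one_lt).1 (hk.trans_le hv)
    omega

open scoped Classical in
/-- A torus of size `D` next to a regular unipotent of size `n - D`, extended by `r`. -/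
theorem exists_witness {D c : ℕ} (hD : 1 ≤ D) (hDn : D < n) (hc : c = 0 ∨ p ^ (c - 1) < n - D)
    {r : ℕ} (hr : r.Prime) (hrq : r ∣ q + 1) (hrn : ¬ r ∣ n) :
    ∃ g : PSUq, r ∣ orderOf g ∧ torusN q D * p ^ c ∣ orderOf g := by
  obtain ⟨z, hz0, hz, hcl, hprod⟩ := exists_torus_orb hF p hD
  set A := orb q z D
  set B := Multiset.replicate (n - D) (1 : KK)
  set T := torusN q D
  have hzA : z ∈ A := mem_orb.2 ⟨0, hD, rfl⟩
  have h1B : (1 : KK) ∈ B := Multiset.mem_replicate.2 ⟨by omega, rfl⟩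
  have hcB : B.count 1 = n - D := Multiset.count_replicate_self _ _
  have hcard : (A + B).card = n := by simp [A, B, orb_card]; omega
  have hp' : (A + B).prod = 1 := by simp [Multiset.prod_add, hprod, A, B]
  have hzT : z ^ T = 1 := hz ▸ pow_orderOf_eq_one z
  have hcop : Nat.Coprime T (p ^ c) :=
    (((Fact.out : p.Prime).coprime_iff_not_dvd.2
      (not_dvd_torusN (Fact.out : p.Prime) (dvd_card_prime hF p) hD)).symm).pow_right c
  by_cases hrT : r ∣ T
  · obtain ⟨g, v, s, hv, -, -, hg⟩ := exists_elem hF p (by omega) hcard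
      (closed_add hcl (closed_one _)) hp'
    have hs : s = 1 := by
      rw [← (hg 1 (Multiset.mem_add.2 (Or.inr h1B))).1, one_pow]
    have hTo : T ∣ orderOf g :=
      hz ▸ orderOf_dvd_of_pow_eq_one ((hg z (Multiset.mem_add.2 (Or.inl hzA))).1.trans hs)
    refine ⟨g, hrT.trans hTo, hcop.mul_dvd_of_dvd_of_dvd hTo (pow_dvd_of_lt hF p hc ?_ hv)⟩
    refine le_trans ?_ (hg 1 (Multiset.mem_add.2 (Or.inr h1B))).2
    rw [Multiset.count_add, hcB]
    omega
  · obtain ⟨g, v, s, hrg, hv, hA, hB⟩ := exists_twist hF p (by omega) hcl (closed_one _)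
      (fun h => by rw [h] at hzA; exact Multiset.notMem_zero _ hzA)
      (fun h => Multiset.notMem_zero (1 : KK) (h ▸ h1B)) hcard hp' hr hrq hrn hrT
      (fun x hx y hy => by
        obtain ⟨i, -, rfl⟩ := mem_orb.1 hx
        rw [Multiset.eq_of_mem_replicate hy, iterate_tau_pow, hzT, one_pow, iterate_tau_eq, _root_.one_zpow])
    have hs : s = 1 := by rw [← (hB 1 h1B).1, one_pow]
    have hTo : T ∣ orderOf g := hz ▸ orderOf_dvd_of_pow_eq_one ((hA z hzA).1.trans hs)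
    exact ⟨g, hrg, hcop.mul_dvd_of_dvd_of_dvd hTo (pow_dvd_of_lt hF p hc (hcB ▸ (hB 1 h1B).2) hv)⟩

/-- An element of order `r`. -/
theorem exists_order_r (hn : 2 ≤ n) {r : ℕ} (hr : r.Prime) (hrq : r ∣ q + 1) (hrn : ¬ r ∣ n) :
    ∃ g : PSUq, orderOf g = r := by
  obtain ⟨g, hg, -⟩ := exists_witness (n := n) hF p (D := 1) (c := 0) le_rfl (by omega) (Or.inl rfl) hr hrq hrn
  exact ⟨g ^ (orderOf g / r), orderOf_pow_orderOf_div (orderOf_pos g).ne' hg⟩

/-- The Singer bound is attained. -/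
theorem exists_singer (hn : 1 ≤ n) :
    ∃ g : PSUq, torusN q n / Nat.gcd n (q + 1) ∣ orderOf g := by
  obtain ⟨z, hz0, hz, hcl, hprod⟩ := exists_torus_orb hF p hn
  obtain ⟨g, v, s, -, hsn, hsq, hg⟩ := exists_elem hF p hn (orb_card z n) hcl hprod
  refine ⟨g, ?_⟩
  rw [Nat.div_dvd_iff_dvd_mul (gcd_dvd_torusN q n) (Nat.gcd_pos_of_pos_left _ hn), ← hz]
  apply orderOf_dvd_of_pow_eq_one
  rw [mul_comm, pow_mul, (hg z (mem_orb.2 ⟨0, hn, rfl⟩)).1, pow_gcd_eq_one.2 ⟨hsn, hsq⟩]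

/-- A regular unipotent element. -/
theorem exists_unipotent (hn : 1 ≤ n) {c : ℕ} (hc : c = 0 ∨ p ^ (c - 1) < n) :
    ∃ g : PSUq, p ^ c ∣ orderOf g := by
  classical
  obtain ⟨g, v, s, hv, -, -, hg⟩ := exists_elem hF p hn (Multiset.card_replicate n (1 : KK))
    (closed_one n) (by simp)
  refine ⟨g, pow_dvd_of_lt hF p hc ?_ hv⟩
  simpa using (hg 1 (Multiset.mem_replicate.2 ⟨by omega, rfl⟩)).2

open scoped Classical in
/-- Periods of eigenvalues. -/
theorem exists_period {S : Multiset KK} (hcl : S.map (tau q) = S) {x : KK} (hx : x ∈ S) :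
    0 < Function.minimalPeriod (tau q) x := by
  refine Function.minimalPeriod_pos_of_mem_periodicPts ?_
  have hmaps : ∀ y ∈ S, tau q y ∈ S := fun y hy => hcl ▸ Multiset.mem_map_of_mem _ hy
  let f : {y // y ∈ S} → {y // y ∈ S} := fun y => ⟨tau q y.1, hmaps _ y.2⟩
  have hf : Function.Injective f := fun a b h =>
    Subtype.ext (tau_injective hF p (congrArg Subtype.val h))
  obtain ⟨N, hN, hper⟩ := hf.mem_periodicPts ⟨x, hx⟩
  exact ⟨N, hN, hper.map (g := fun y : {y // y ∈ S} => y.1) (fun _ => rfl)⟩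

open scoped Classical in
/-- The three kinds of elements. -/
theorem classify (hn : 2 ≤ n) {r : ℕ} (hr : r.Prime) (hrq : r ∣ q + 1) (hrn : ¬ r ∣ n) (g : PSUq) :
    (∃ h : PSUq, Nat.lcm r (orderOf g) ∣ orderOf h) ∨
    orderOf g ∣ torusN q n / Nat.gcd n (q + 1) ∨
    ∃ j : ℕ, n - 1 = p ^ j ∧ orderOf g ∣ p ^ (j + 1) := by
  obtain ⟨g₀, rfl⟩ := QuotientGroup.mk_surjective g
  have : NeZero n := ⟨by omega⟩
  obtain ⟨hcard, hcl, hprod⟩ := eigen_spec hF p g₀
  set S := (g₀.1.1.charpoly.map ι).roots with hS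
  set o := orderOf (QuotientGroup.mk g₀ : PSUq)
  have hS0 : ∀ x ∈ S, x ≠ 0 := fun x hx h => zero_ne_one
    (show (0 : KK) = 1 by rw [← hprod, Multiset.prod_eq_zero (h ▸ hx)])
  have hinj := tau_injective hF p
  obtain ⟨x₀, hx₀⟩ := Multiset.card_pos_iff_exists_mem.1 (show 0 < S.card by omega)
  set D := Function.minimalPeriod (tau q) x₀
  have hD : 0 < D := exists_period hF p hcl hx₀
  have hper : (tau q)^[D] x₀ = x₀ := Function.iterate_minimalPeriod
  let P : KK → Prop := fun y => ∃ i, (tau q)^[i] x₀ = y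
  by_cases hall : ∀ y ∈ S, P y
  swap
  · -- two orbits
    left
    push Not at hall
    obtain ⟨y₀, hy₀, hy₀P⟩ := hall
    by_cases hro : r ∣ o
    · exact ⟨_, Nat.lcm_dvd hro dvd_rfl⟩
    have hiff : ∀ y, P (tau q y) ↔ P y := fun y => by
      constructor
      · rintro ⟨i, hi⟩
        refine ⟨i + (D - 1), hinj ?_⟩
        rw [← Function.iterate_succ_apply' (tau q), show (i + (D - 1)).succ = i + D by omega,
          Function.iterate_add_apply, hper, hi]
      · rintro ⟨i, hi⟩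
        exact ⟨i + 1, by rw [Function.iterate_succ_apply', hi]⟩
    have hfilt : ∀ (Q : KK → Prop) [DecidablePred Q], (∀ y, Q (tau q y) ↔ Q y) →
        (S.filter Q).map (tau q) = S.filter Q := fun Q _ hQ => by
      conv_rhs => rw [← hcl, Multiset.filter_map]
      congr 1
      exact Multiset.filter_congr fun y _ => (hQ y).symm
    obtain ⟨k, hk⟩ := (pow_mk_eq_one_iff hF p _ _).1 (pow_orderOf_eq_one (QuotientGroup.mk g₀ : PSUq))
    obtain ⟨h, v, s, hrh, hv, hA, hB⟩ := exists_twist hF p (by omega) (hfilt P hiff)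
      (hfilt (fun y => ¬ P y) fun y => not_congr (hiff y))
      (fun h => by
        have h' : x₀ ∈ S.filter P := Multiset.mem_filter.2 ⟨hx₀, 0, rfl⟩
        rw [h] at h'; exact Multiset.notMem_zero _ h')
      (fun h => by
        have h' : y₀ ∈ S.filter fun y => ¬ P y := Multiset.mem_filter.2 ⟨hy₀, hy₀P⟩
        rw [h] at h'; exact Multiset.notMem_zero _ h')
      (by rw [Multiset.filter_add_not]; exact hcard) (by rw [Multiset.filter_add_not]; exact hprod)
      hr hrq hrn hro (fun x hx y hy => by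
        rw [eigen_pow_eq hF p hk (Multiset.mem_filter.1 hx).1,
          eigen_pow_eq hF p hk (Multiset.mem_filter.1 hy).1])
    refine ⟨h, Nat.lcm_dvd hrh ?_⟩
    obtain ⟨T, hT⟩ := hv
    have hT0 : 0 < T := Nat.pos_of_ne_zero fun h0 => (orderOf_pos h).ne' (by rw [hT, h0, mul_zero])
    rw [hT, mul_comm]
    refine orderOf_mk_dvd hF p g₀ hT0 (s := s) fun x hx => ?_
    rw [mul_comm T, ← hT]
    by_cases hxP : P x
    · obtain ⟨h1, h2⟩ := hA x (Multiset.mem_filter.2 ⟨hx, hxP⟩)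
      exact ⟨h1, by rwa [Multiset.count_filter_of_pos hxP] at h2⟩
    · obtain ⟨h1, h2⟩ := hB x (Multiset.mem_filter.2 ⟨hx, hxP⟩)
      exact ⟨h1, by rwa [Multiset.count_filter_of_pos (p := fun y => ¬ P y) hxP] at h2⟩
  -- one orbit
  set m := S.count x₀ with hm
  have hm1 : 1 ≤ m := Multiset.count_pos.2 hx₀
  have hcnt : ∀ i, S.count ((tau q)^[i] x₀) = m := fun i => by
    induction i with
    | zero => rfl
    | succ i ih =>
      rw [Function.iterate_succ_apply']
      conv_lhs => rw [← hcl]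
      rw [Multiset.count_map_eq_count' _ _ hinj, ih]
  have hmem : ∀ y ∈ S, ∃ i < D, (tau q)^[i] x₀ = y := fun y hy => by
    obtain ⟨i, hi⟩ := hall y hy
    exact ⟨i % D, Nat.mod_lt _ hD, by rw [Function.iterate_mod_minimalPeriod_eq, hi]⟩
  have hnd : (orb q x₀ D).Nodup :=
    Multiset.Nodup.map_on (fun i hi j hj h => Function.iterate_injOn_Iio_minimalPeriod
      (Set.mem_Iio.2 (Multiset.mem_range.1 hi)) (Set.mem_Iio.2 (Multiset.mem_range.1 hj)) h)
      (Multiset.nodup_range D)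
  have hSeq : S = m • orb q x₀ D := by
    ext y
    rw [Multiset.count_nsmul]
    by_cases hy : y ∈ orb q x₀ D
    · rw [Multiset.count_eq_one_of_mem hnd hy, mul_one]
      obtain ⟨i, -, rfl⟩ := mem_orb.1 hy
      exact hcnt i
    · rw [Multiset.count_eq_zero_of_notMem hy, mul_zero, Multiset.count_eq_zero]
      exact fun h => hy (mem_orb.2 (hmem y h))
  have hnD : m * D = n := by rw [← hcard, hSeq, Multiset.card_nsmul, orb_card]
  set T := torusN q D
  have hT0 : 0 < T := torusN_pos hF p hD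
  have hfix : ∀ {k : ℕ}, (x₀ ^ k) ^ (q + 1) = 1 → ∀ y ∈ S, y ^ k = x₀ ^ k := fun {k} hk y hy => by
    obtain ⟨i, -, rfl⟩ := hmem y hy
    rw [iterate_tau_pow, Function.iterate_fixed (tau_eq_self_of_pow hk)]
  have hxT : (x₀ ^ T) ^ (q + 1) = 1 := by
    rw [← pow_mul]; exact (periodic_iff (hS0 _ hx₀) D).1 hper
  have hcy : ∀ y ∈ S, S.count y = m := fun y hy => by
    obtain ⟨i, -, rfl⟩ := hmem y hy
    exact hcnt i
  by_cases hDn : D = n
  · -- the Singer bound
    refine Or.inr (Or.inl ?_)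
    have hm' : m = 1 := by
      rw [hDn] at hnD
      exact Nat.eq_of_mul_eq_mul_right (by omega : 0 < n) (hnD.trans (one_mul n).symm)
    have hxT1 : x₀ ^ T = 1 := by
      refine (zpow_eq_one_iff_natAbs x₀ (∑ i ∈ Finset.range D, (-(q : ℤ)) ^ i)).1 ?_
      rw [← orb_prod (hS0 _ hx₀), ← hprod, hSeq, hm', one_smul]
    set δ := Nat.gcd n (q + 1)
    have hδT : δ ∣ T := by rw [show T = torusN q n by rw [← hDn]]; exact gcd_dvd_torusN q n
    rw [show torusN q n = T by rw [← hDn]]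
    have hk : (x₀ ^ (T / δ)) ^ (q + 1) = 1 := by
      obtain ⟨u, hu⟩ : δ ∣ q + 1 := Nat.gcd_dvd_right _ _
      rw [hu, ← pow_mul, ← mul_assoc, Nat.div_mul_cancel hδT, pow_mul, hxT1, one_pow]
    have h := orderOf_mk_dvd hF p g₀ (T := T / δ) (v := 0)
      (Nat.div_pos (Nat.le_of_dvd hT0 hδT) (Nat.gcd_pos_of_pos_left _ (by omega))) (s := x₀ ^ (T / δ))
      fun y hy => by
        rw [pow_zero, mul_one]
        exact ⟨hfix hk y hy, by rw [hcy y hy, hm']⟩
    simpa using h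
  have hDlt : D < n := lt_of_le_of_ne (hnD ▸ Nat.le_mul_of_pos_left D hm1) hDn
  have hp1 : 1 < p := (Fact.out : p.Prime).one_lt
  set c := Nat.clog p m with hc
  have hbound : o ∣ T * p ^ c := orderOf_mk_dvd hF p g₀ hT0 (s := (x₀ ^ T) ^ p ^ c) fun y hy =>
    ⟨by rw [pow_mul, hfix hxT y hy], by rw [hcy y hy]; exact Nat.le_pow_clog hp1 m⟩
  have hcl' : c = 0 ∨ p ^ (c - 1) < m := by
    rcases Nat.eq_zero_or_pos c with h | h
    · exact Or.inl h
    · refine Or.inr (Nat.pow_pred_clog_lt_self hp1 ?_)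
      by_contra h'
      exact h.ne' (Nat.clog_of_right_le_one (by omega) p)
  by_cases hek : c = 0 ∨ p ^ (c - 1) < n - D
  · obtain ⟨h, hrh, hh⟩ := exists_witness hF p hD hDlt hek hr hrq hrn
    exact Or.inl ⟨h, Nat.lcm_dvd hrh (hbound.trans hh)⟩
  push Not at hek
  have hlt := hcl'.resolve_left hek.1
  have hD1 : D = 1 := by
    by_contra hne
    obtain ⟨d, hd⟩ : ∃ d, D = d + 2 := ⟨D - 2, by omega⟩
    have h2 : 2 * m + d * m = n := by rw [← add_mul, add_comm 2 d, ← hd, mul_comm]; exact hnD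
    have h3 : 2 ≤ m := by
      by_contra hh
      have : m = 1 := by omega
      rw [this] at hlt
      exact absurd hlt (not_lt.2 (Nat.one_le_pow _ _ (by omega)))
    have h4 : 2 * d ≤ d * m := by rw [mul_comm d m]; exact Nat.mul_le_mul_right d h3
    omega
  rw [hD1, mul_one] at hnD
  have hT1 : T = 1 := by
    show torusN q D = 1
    rw [hD1, torusN_one]
  refine Or.inr (Or.inr ⟨c - 1, by omega, ?_⟩)
  rw [Nat.sub_add_cancel (Nat.pos_of_ne_zero hek.1)]
  simpa [hT1] using hbound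

end CfsgLib.PSUTwist
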