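import Mathlib
import Cfsg.Prelude.Def_Classical
import Cfsg.Agent.Lib.ClassicalGroups.HermGroup
import Cfsg.Agent.Lib.SpecGL.SLClassBound
import Cfsg.Agent.Lib.SpecUnitary.UClassTools

/-!
Upper bound for the number of classes of `SU_n(q)`.
-/

set_option autoImplicit false

namespace CfsgLib.SpecUnitary

open Polynomial Matrix CfsgLib.SpecGL

universe u

variable {F : Type u} [Field F] [Fintype F] {n q : ℕ} {τ : F →+* F}

theorem unitary_of_preserving (hF : Fintype.card F = q ^ 2) (hτ : ∀ x, τ x = x ^ q)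
    (hτ2 : ∀ x, τ (τ x) = x) {M : Matrix (Fin n) (Fin n) F}
    (h : ∀ u v, Cfsg.hermForm n F q (M *ᵥ u) (M *ᵥ v) = Cfsg.hermForm n F q u v) :
    conjT τ M * M = 1 := by
  have hg : Mᵀ * M.map τ = 1 := by
    ext i j
    have h := h (Pi.single i 1) (Pi.single j 1)
    rw [CfsgLib.ClassicalGroups.hermForm_single_right hF n (Pi.single i 1) j] at h
    simpa [Cfsg.hermForm, Matrix.mul_apply, Pi.single_apply, Matrix.one_apply, eq_comm, hτ] using h
  simpa [conjT] using congrArg Matrix.transpose hg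

theorem preserving_of_unitary (hτ : ∀ x, τ x = x ^ q) (hτ2 : ∀ x, τ (τ x) = x)
    {M : Matrix (Fin n) (Fin n) F} (h : conjT τ M * M = 1) (u v : Fin n → F) :
    Cfsg.hermForm n F q (M *ᵥ u) (M *ᵥ v) = Cfsg.hermForm n F q u v := by
  have hh : ∀ a b : Fin n → F, Cfsg.hermForm n F q a b = a ⬝ᵥ (τ ∘ b) := fun a b => by
    simp [Cfsg.hermForm, dotProduct, hτ]
  have hg : Mᵀ * M.map τ = 1 := by simpa [conjT] using congrArg Matrix.transpose h
  have hv : τ ∘ (M *ᵥ v) = M.map τ *ᵥ (τ ∘ v) := funext fun i => by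
    simp [Matrix.mulVec, dotProduct, map_sum]
  rw [hh, hh, hv, Matrix.dotProduct_mulVec, ← Matrix.mulVec_transpose, Matrix.mulVec_mulVec, dotProduct_comm,
    dotProduct_comm u]
  congr 1
  have h2 : (M.map τ)ᵀ * M = 1 := h
  rw [h2, Matrix.one_mulVec]

/-- The classes of `SU` inside one class of `GU`. -/
theorem card_classes_in_gu_class (hF : Fintype.card F = q ^ 2) (hτ : ∀ x, τ x = x ^ q)
    (hτne : τ ≠ RingHom.id F) (hτ2 : ∀ x, τ (τ x) = x) (A : Cfsg.SU n F q) {s : Multiset (F[X] × ℕ)}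
    (hs : GoodDivisors s) (h : HasDivisors A.1.1 s) {x : F[X] × ℕ} (hx : x ∈ s) :
    Nat.card {c : ConjClasses (Cfsg.SU n F q) //
      ∃ P : Matrix (Fin n) (Fin n) F, conjT τ P * P = 1 ∧ P * c.out.1.1 = A.1.1 * P} ≤ uGcd q x.2 := by
  classical
  have hAu : conjT τ A.1.1 * A.1.1 = 1 :=
    unitary_of_preserving hF hτ hτ2 (CfsgLib.ClassicalGroups.mem_SU_iff.1 A.2)
  let N : Subgroup Fˣ := (powMonoidHom (q + 1) : Fˣ →* Fˣ).ker
  have hN : Nat.card N = q + 1 := CfsgLib.ClassicalGroups.card_norm_one_units hF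
  let C : Subgroup (GL (Fin n) F) := Subgroup.centralizer {SpecialLinearGroup.toGL A.1} ⊓ Cfsg.GU n F q
  let H : Subgroup N := (C.map Matrix.GeneralLinearGroup.det).subgroupOf N
  have hR : (powMonoidHom x.2 : N →* N).range ≤ H := by
    rintro _ ⟨a, rfl⟩
    rw [Subgroup.mem_subgroupOf, Subgroup.mem_map]
    have ha : ((a : Fˣ) : F) ^ (q + 1) = 1 := by
      have h1 : (a : Fˣ) ^ (q + 1) = 1 := a.2
      simpa using congrArg Units.val h1
    obtain ⟨l, hl⟩ : ∃ l, τ l ≠ l := by
      by_contra h0; push Not at h0; exact hτne (RingHom.ext h0)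
    have hatau : ((a : Fˣ) : F) * τ ((a : Fˣ) : F) = 1 := by rw [hτ, ← pow_succ', ha]
    obtain ⟨b₀, hb₀⟩ := exists_unit_twist τ (lam := l) (isUnit_iff_ne_zero.2 (sub_ne_zero.2 (Ne.symm hl))) hatau
    set b := b₀ + ((a : Fˣ) : F) * τ b₀ with hb
    have hba : ((a : Fˣ) : F) * τ b = b := by
      rw [hb, map_add, map_mul, hτ2, mul_add, ← mul_assoc, hatau, one_mul, add_comm]
    obtain ⟨Q, hQA, hQ⟩ := h.exists_commute_det hs hx b
    have hb0 : b ≠ 0 := hb₀.ne_zero
    obtain ⟨V, hVu, hVA, hVd⟩ := exists_unitary_commute_det hτne hτ2 hAu hQA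
      (by rw [hQ]; exact pow_ne_zero _ hb0)
    have hVdet : V.det = ((a : Fˣ) : F) ^ x.2 := by
      rw [hVd, hQ, map_pow, ← inv_pow, ← mul_pow]
      congr 1
      rw [mul_inv_eq_iff_eq_mul₀ ((map_ne_zero τ).2 hb0), hba]
    have hne : V.det ≠ 0 := by rw [hVdet]; exact pow_ne_zero _ (Units.ne_zero _)
    refine ⟨Matrix.GeneralLinearGroup.mkOfDetNeZero V hne, Subgroup.mem_inf.2 ⟨?_, ?_⟩, Units.ext ?_⟩
    · rw [Subgroup.mem_centralizer_singleton_iff]
      exact Units.ext hVA
    · exact CfsgLib.ClassicalGroups.mem_GU_iff.2 (preserving_of_unitary hτ hτ2 hVu)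
    · simpa using hVdet
  have hidx : H.index ≤ uGcd q x.2 := by
    refine (Nat.le_of_dvd (Nat.pos_of_ne_zero Subgroup.FiniteIndex.index_ne_zero)
      (Subgroup.index_dvd_of_le hR)).trans (le_of_eq ?_)
    rw [IsCyclic.index_powMonoidHom_range, hN, Nat.gcd_comm]
    rfl
  choose P hPu hP using fun c : {c : ConjClasses (Cfsg.SU n F q) //
      ∃ P : Matrix (Fin n) (Fin n) F, conjT τ P * P = 1 ∧ P * c.out.1.1 = A.1.1 * P} => c.2
  have hPdet : ∀ c, (P c).det ^ (q + 1) = 1 := fun c => by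
    have := congrArg Matrix.det (hPu c)
    rw [Matrix.det_mul, det_conjT, Matrix.det_one, hτ, ← pow_succ] at this
    exact this
  have hP0 : ∀ c, (P c).det ≠ 0 := fun c h0 => by simpa [h0] using hPdet c
  let PG := fun c => Matrix.GeneralLinearGroup.mkOfDetNeZero (P c) (hP0 c)
  have hPN : ∀ c, Matrix.GeneralLinearGroup.det (PG c) ∈ N := fun c => by
    rw [MonoidHom.mem_ker]
    exact Units.ext (by simpa [PG] using hPdet c)
  refine le_trans ?_ hidx
  refine Nat.card_le_card_of_injective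
    (fun c => (QuotientGroup.mk (⟨_, hPN c⟩ : N) : N ⧸ H)) fun c c' hcc => ?_
  have hcc' := QuotientGroup.eq.1 hcc
  rw [Subgroup.mem_subgroupOf, Subgroup.mem_map] at hcc'
  obtain ⟨Q, hQ, hQd⟩ := hcc'
  obtain ⟨hQc, hQU⟩ := Subgroup.mem_inf.1 hQ
  rw [Subgroup.mem_centralizer_singleton_iff] at hQc
  let R : GL (Fin n) F := (PG c')⁻¹ * Q * PG c
  have hR1 : Matrix.GeneralLinearGroup.det R = 1 := by
    rw [map_mul, map_mul, map_inv, hQd, Subgroup.coe_mul, Subgroup.coe_inv, ← mul_assoc,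
      mul_right_comm _ (Matrix.GeneralLinearGroup.det (PG c'))]
    group
  have hRU : R ∈ Cfsg.GU n F q := mul_mem (mul_mem (inv_mem (CfsgLib.ClassicalGroups.mem_GU_iff.2
    (preserving_of_unitary hτ hτ2 (hPu c')))) hQU) (CfsgLib.ClassicalGroups.mem_GU_iff.2
    (preserving_of_unitary hτ hτ2 (hPu c)))
  have hRc : R * SpecialLinearGroup.toGL c.1.out.1 = SpecialLinearGroup.toGL c'.1.out.1 * R := by
    have e1 : PG c * SpecialLinearGroup.toGL c.1.out.1 = SpecialLinearGroup.toGL A.1 * PG c :=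
      Units.ext (hP c)
    have e2 : (PG c')⁻¹ * SpecialLinearGroup.toGL A.1 =
        SpecialLinearGroup.toGL c'.1.out.1 * (PG c')⁻¹ := by
      rw [inv_mul_eq_iff_eq_mul, ← mul_assoc, eq_mul_inv_iff_mul_eq]
      exact (Units.ext (hP c')).symm
    simp only [R, mul_assoc]
    rw [e1, ← mul_assoc Q, hQc, mul_assoc, ← mul_assoc (PG c')⁻¹, e2]
    simp only [mul_assoc]
  let R' : SpecialLinearGroup (Fin n) F :=
    ⟨(R : Matrix (Fin n) (Fin n) F), by simpa using congrArg Units.val hR1⟩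
  have hR'U : R' ∈ Cfsg.SU n F q :=
    CfsgLib.ClassicalGroups.mem_SU_iff.2 (CfsgLib.ClassicalGroups.mem_GU_iff.1 hRU)
  refine Subtype.ext ?_
  rw [← c.1.out_eq, ← c'.1.out_eq]
  refine Quotient.sound (isConj_iff.2 ⟨⟨R', hR'U⟩, ?_⟩)
  rw [mul_inv_eq_iff_eq_mul]
  exact Subtype.ext (Subtype.ext (congrArg Units.val hRc))

theorem card_su_classes_le (hF : Fintype.card F = q ^ 2) (hτ : ∀ x, τ x = x ^ q)
    (hτne : τ ≠ RingHom.id F) (hτ2 : ∀ x, τ (τ x) = x) (hn : 1 ≤ n) :
    (q + 1) * Nat.card (ConjClasses (Cfsg.SU n F q)) ≤ uWeight q n n := by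
  classical
  let K := ConjClasses (Cfsg.SU n F q)
  have hU := fun c : K => unitary_of_preserving hF hτ hτ2 (CfsgLib.ClassicalGroups.mem_SU_iff.1 c.out.2)
  have hex := fun c : K => exists_divisors c.out.1.1
    ((Matrix.isUnit_iff_isUnit_det _).2 (by rw [c.out.1.2]; exact isUnit_one))
  choose s hdiv hgood hsum using hex
  let h : K → Fin n → F[X] := fun c i => exponentPoly (s c) i
  have hmem : ∀ c, h c ∈ tuples F n n := fun c => mem_tuples
    (fun i => ⟨GoodDivisors.monic_exponentPoly (hgood c) i, GoodDivisors.coeff_zero_exponentPoly (hgood c) i⟩)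
    (GoodDivisors.weight_exponentPoly (hgood c) (hsum c))
  have hfix : ∀ c i, conjRev τ (h c i) = h c i := fun c i => by
    have hinv := divisors_conjRev_invariant hτ2 (hU c) (hgood c) (hdiv c)
    change conjRev τ (exponentPoly (s c) i) = exponentPoly (s c) i
    rw [exponentPoly, conjRev_multiset_prod]
    conv_rhs => rw [← hinv, Multiset.filter_map, Multiset.map_map]
    rw [Multiset.map_map]
    rfl
  have hdet : ∀ c, tupleDet (h c) = 1 := fun c => by
    have h1 := (hdiv c).det_eq (hgood c)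
    rw [c.out.1.2, ← GoodDivisors.det_exponentPoly (n := n) (hgood c) (hsum c)] at h1
    exact h1.symm
  haveI : Fintype K := Fintype.ofFinite K
  have hfib : ∀ t ∈ tuples F n n, (Finset.univ.filter fun c : K => h c = t).card ≤
      if (∀ i, conjRev τ (t i) = t i) ∧ tupleDet t = 1 then leastWeight (q + 2) n t else 0 := by
    intro t ht
    rcases Finset.eq_empty_or_nonempty (Finset.univ.filter fun c : K => h c = t) with he | ⟨c₀, hc₀⟩
    · rw [he]; simp
    rw [Finset.mem_filter] at hc₀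
    rw [if_pos ⟨fun i => by rw [← hc₀.2]; exact hfix c₀ i, by rw [← hc₀.2, hdet]⟩]
    have hne : ∃ i, (t i).natDegree ≠ 0 := by
      by_contra hall
      push Not at hall
      have := (spec_tuples ht).2
      simp [hall] at this
      omega
    obtain ⟨i, hi, hw⟩ := leastWeight_spec (q + 2) hne
    obtain ⟨x, hx, hxi⟩ : ∃ x ∈ s c₀, x.2 = (i : ℕ) + 1 := by
      by_contra hall
      push Not at hall
      refine hi ?_
      rw [← hc₀.2]
      change (exponentPoly (s c₀) i).natDegree = 0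
      rw [exponentPoly, Multiset.filter_eq_nil.2 hall]
      simp
    rw [hw, ← hxi, show gcdWeight (q + 2) x.2 = uGcd q x.2 from rfl]
    refine le_trans ?_ (card_classes_in_gu_class hF hτ hτne hτ2 c₀.out (hgood c₀) (hdiv c₀) hx)
    rw [← Nat.card_eq_finsetCard]
    refine Nat.card_le_card_of_injective (fun c => ⟨(c : K), ?_⟩)
      fun a b hab => Subtype.ext (congrArg (fun z => z.1) hab)
    have hc : h c = h c₀ := ((Finset.mem_filter.1 c.2).2).trans hc₀.2.symm
    have hss : s c = s c₀ :=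
      GoodDivisors.eq_of_exponentPoly_eq (hgood c) (hgood c₀)
        (fun y hy => (GoodDivisors.bounds (hgood c) (hsum c) y hy).2)
        (fun y hy => (GoodDivisors.bounds (hgood c₀) (hsum c₀) y hy).2)
        fun j => congrFun hc j
    obtain ⟨P, hP⟩ := isConj_of_divisors (hdiv c) (show HasDivisors _ (s c) by rw [hss]; exact hdiv c₀)
    exact exists_unitary_conj hτne hτ2 (hU c) (hU c₀)
      ((Matrix.isUnit_iff_isUnit_det _).1 P.isUnit) hP
  refine le_trans (Nat.mul_le_mul_left _ ?_) (weighted_utuples_le (τ := τ) hF hτ n n hn 1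
    (fun m g => leastWeight (q + 2) m g) (fun m t x ht => ?_) (fun m t x ht => ?_))
  · change Nat.card K ≤ _
    rw [Nat.card_eq_fintype_card, ← Finset.card_univ,
      Finset.card_eq_sum_card_fiberwise (f := h) (t := tuples F n n) fun c _ => hmem c]
    exact Finset.sum_le_sum hfib
  · rw [leastWeight, if_pos fun i => by simpa using ht i]
    rfl
  · rw [leastWeight, if_neg fun hh => ht fun i => by simpa using hh i, Fin.init_snoc]

end CfsgLib.SpecUnitary
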