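import Mathlib
import Cfsg.Agent.Lib.UnitaryEmbed.HermSpace
import Cfsg.Agent.Lib.SpecUnitary.SUClassBound

/-!
Every admissible conjugate-reciprocal polynomial is a characteristic polynomial in `SU_n(q)`.
-/

set_option autoImplicit false

namespace CfsgLib.SpecUnitary

open Polynomial Matrix CfsgLib.SpecGL

universe u

variable {F : Type u} [Field F] [Fintype F] {n q : ℕ} {τ : F →+* F}

theorem exists_su_charpoly (hF : Fintype.card F = q ^ 2) (hτ : ∀ x, τ x = x ^ q)
    (hτne : τ ≠ RingHom.id F) (hτ2 : ∀ x, τ (τ x) = x) (hn : 1 ≤ n) {f : F[X]} (hm : f.Monic)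
    (hd : f.natDegree = n) (h0 : f.coeff 0 = (-1) ^ n) (hfix : conjRev τ f = f) :
    ∃ A : Cfsg.SU n F q, (A.1.1).charpoly = f := by
  classical
  let R := AdjoinRoot f
  let pb := AdjoinRoot.powerBasis hm.ne_zero
  haveI : Module.Finite F R := pb.finite
  haveI : Finite R := Module.finite_of_finite F
  have ha0 : f.coeff 0 ≠ 0 := by rw [h0]; exact pow_ne_zero _ (neg_ne_zero.2 one_ne_zero)
  -- the inverse of the root
  let x : R := AdjoinRoot.root f
  let xi : R := AdjoinRoot.mk f (C (-(f.coeff 0)⁻¹) * f.divX)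
  have hxxi : x * xi = 1 := by
    change AdjoinRoot.mk f X * AdjoinRoot.mk f _ = 1
    rw [← map_mul, ← map_one (AdjoinRoot.mk f), AdjoinRoot.mk_eq_mk]
    refine ⟨C (-(f.coeff 0)⁻¹), ?_⟩
    conv_rhs => arg 1; rw [← X_mul_divX_add f]
    rw [add_mul, ← C_mul, mul_neg, mul_inv_cancel₀ ha0]
    simp only [map_neg, map_one]
    ring
  letI : Invertible xi := ⟨x, hxxi, by rw [mul_comm]; exact hxxi⟩
  have hroot : (f.map τ).eval₂ (algebraMap F R) xi = 0 := by
    rw [← eval₂_reverse_mul_pow (algebraMap F R) xi (f.map τ)]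
    have hrev : (f.map τ).reverse = C (τ (f.coeff 0)) * f := by
      refine Eq.trans ?_ (congrArg (fun g => C (τ (f.coeff 0)) * g) hfix)
      rw [conjRev, ← mul_assoc, ← C_mul, mul_inv_cancel₀ ((map_ne_zero τ).2 ha0), C_1, one_mul]
    rw [hrev, eval₂_mul, show eval₂ (algebraMap F R) (⅟xi) f = 0 from AdjoinRoot.eval₂_root f,
      mul_zero, zero_mul]
  let σ : R →+* R := AdjoinRoot.lift ((algebraMap F R).comp τ) xi (by rw [← eval₂_map]; exact hroot)
  have hσC : ∀ c : F, σ (algebraMap F R c) = algebraMap F R (τ c) := fun c =>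
    AdjoinRoot.lift_of _
  have hσx : σ x = xi := AdjoinRoot.lift_root _
  have hσxi : σ xi = x := by
    have h := congrArg σ hxxi
    rw [map_mul, hσx, map_one] at h
    calc σ xi = (x * xi) * σ xi := by rw [hxxi, one_mul]
      _ = x * (xi * σ xi) := mul_assoc _ _ _
      _ = x := by rw [h, mul_one]
  have hσσ : ∀ r, σ (σ r) = r := by
    intro r
    induction r using AdjoinRoot.induction_on with
    | ih g =>
      induction g using Polynomial.induction_on with
      | C a =>
        change σ (σ (algebraMap F R a)) = algebraMap F R a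
        rw [hσC, hσC, hτ2]
      | add g h hg hh => rw [map_add, map_add, map_add, hg, hh]
      | monomial k a ih =>
        rw [pow_succ, ← mul_assoc, map_mul, map_mul, map_mul, ih]
        change _ * σ (σ x) = _ * x
        rw [hσx, hσxi]
  have hσsmul : ∀ (c : F) (r : R), σ (c • r) = τ c • σ r := fun c r => by
    rw [Algebra.smul_def, map_mul, hσC, ← Algebra.smul_def]
  -- the Frobenius functional
  let ℓ₀ : R →ₗ[F] F := (lcoeff F (n - 1)).comp (AdjoinRoot.modByMonicHom hm)
  have hnd : ∀ r : R, (∀ z, ℓ₀ (r * z) = 0) → r = 0 := by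
    intro r hr
    have hg := AdjoinRoot.mk_leftInverse hm r
    by_contra hne
    set g := AdjoinRoot.modByMonicHom hm r with hgdef
    have hg0 : g ≠ 0 := fun h => hne (by rw [← hg, h, map_zero])
    have hdeg : g.natDegree < n := by
      have : g = g %ₘ f := by
        conv_lhs => rw [hgdef, ← hg, AdjoinRoot.modByMonicHom_mk]
      rw [this, ← hd]
      exact natDegree_modByMonic_lt _ hm fun h => by
        rw [h, natDegree_one] at hd
        omega
    have h1 := hr (AdjoinRoot.mk f (X ^ (n - 1 - g.natDegree)))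
    rw [← hg, ← map_mul] at h1
    have hlt : (g * X ^ (n - 1 - g.natDegree)).degree < f.degree := by
      refine degree_lt_degree ?_
      rw [natDegree_mul hg0 (pow_ne_zero _ X_ne_zero), natDegree_X_pow, hd]
      omega
    have h2 : (g * X ^ (n - 1 - g.natDegree)).coeff (n - 1) = 0 := by
      have h3 := h1
      change (AdjoinRoot.modByMonicHom hm (AdjoinRoot.mk f _)).coeff (n - 1) = 0 at h3
      rwa [AdjoinRoot.modByMonicHom_mk, (modByMonic_eq_self_iff hm).2 hlt] at h3
    rw [coeff_mul_X_pow', if_pos (by omega), show n - 1 - (n - 1 - g.natDegree) = g.natDegree by omega] at h2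
    exact hg0 (leadingCoeff_eq_zero.1 h2)
  let Lmap : R →ₗ[F] (R →ₗ[F] F) :=
    { toFun := fun r => ℓ₀.comp (Algebra.lmul F R r)
      map_add' := fun a b => by ext z; simp [add_mul]
      map_smul' := fun c a => by ext z; simp }
  have hLinj : Function.Injective Lmap := by
    intro a b hab
    rw [← sub_eq_zero]
    refine hnd _ fun z => ?_
    rw [sub_mul, map_sub]
    exact sub_eq_zero.2 (LinearMap.congr_fun hab z)
  have hLsurj : Function.Surjective Lmap :=
    (LinearMap.injective_iff_surjective_of_finrank_eq_finrank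
      (Subspace.dual_finrank_eq (K := F) (V := R)).symm).1 hLinj
  let φ : R →ₗ[F] F :=
    { toFun := fun r => τ (ℓ₀ (σ r))
      map_add' := fun a b => by simp
      map_smul' := fun c a => by simp [hσsmul, hτ2] }
  obtain ⟨w, hw⟩ := hLsurj φ
  have hw' : ∀ r, ℓ₀ (w * r) = τ (ℓ₀ (σ r)) := fun r => LinearMap.congr_fun hw r
  have hwσ : w * σ w = 1 := by
    rw [← sub_eq_zero]
    refine hnd _ fun z => ?_
    rw [sub_mul, map_sub, one_mul, mul_assoc, hw', map_mul, hσσ, hw', hσσ, hτ2, sub_self]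
  obtain ⟨l, hl⟩ : ∃ l, τ l ≠ l := by
    by_contra h; push Not at h; exact hτne (RingHom.ext h)
  have hlam : IsUnit (algebraMap F R l - σ (algebraMap F R l)) := by
    rw [hσC, ← map_sub]
    exact (isUnit_iff_ne_zero.2 (sub_ne_zero.2 (Ne.symm hl))).map _
  obtain ⟨a, hy⟩ := exists_unit_twist σ hlam hwσ
  set y := a + w * σ a with hydef
  have hwy : w * σ y = y := by
    rw [hydef, map_add, map_mul, hσσ, mul_add, ← mul_assoc, hwσ, one_mul, add_comm]
  have hherm : ∀ r, τ (ℓ₀ (y * r)) = ℓ₀ (y * σ r) := fun r => by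
    have h1 := hw' (σ y * σ r)
    rw [map_mul σ, hσσ, hσσ, ← mul_assoc, hwy] at h1
    exact h1.symm
  let B : R →ₛₗ[τ] R →ₗ[F] F :=
    LinearMap.mk₂'ₛₗ τ (RingHom.id F) (fun v u => ℓ₀ (y * (u * σ v)))
      (fun v v' u => by simp [mul_add]) (fun c v u => by simp [hσsmul])
      (fun v u u' => by simp [mul_add, add_mul]) (fun c v u => by simp)
  have hBS : ∀ u v, τ (B u v) = B v u := fun u v => by
    change τ (ℓ₀ (y * (v * σ u))) = ℓ₀ (y * (u * σ v))
    rw [hherm, map_mul σ, hσσ, mul_comm (σ v)]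
  have hBsep : B.SeparatingLeft := by
    intro v hv
    have h1 : y * σ v = 0 := hnd _ fun z => by
      have := hv z
      change ℓ₀ (y * (z * σ v)) = 0 at this
      rwa [mul_assoc, mul_comm (σ v)]
    rw [hy.mul_right_eq_zero] at h1
    rw [← hσσ v, h1, map_zero]
  have hdim : Module.finrank F R = n := by rw [pb.finrank]; exact hd
  obtain ⟨e, he⟩ := CfsgLib.UnitaryEmbed.exists_std_equiv hF τ hτ hτne hτ2 B hBS hBsep hdim
  let T : (Fin n → F) →ₗ[F] (Fin n → F) :=
    e.symm.toLinearMap ∘ₗ Algebra.lmul F R x ∘ₗ e.toLinearMap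
  let M := LinearMap.toMatrix' T
  have hM : M.charpoly = f := by
    have h1 : T.charpoly = M.charpoly := (LinearMap.charpoly_toMatrix T (Pi.basisFun F (Fin n))).symm.trans
      (by rw [LinearMap.toMatrix_eq_toMatrix'])
    have h2 : T.charpoly = (Algebra.lmul F R x : R →ₗ[F] R).charpoly :=
      LinearEquiv.charpoly_conj e.symm (Algebra.lmul F R x)
    rw [← h1, h2, ← LinearMap.charpoly_toMatrix _ pb.basis]
    change (Algebra.leftMulMatrix pb.basis pb.gen).charpoly = f
    rw [charpoly_leftMulMatrix, AdjoinRoot.powerBasis_gen, AdjoinRoot.minpoly_root hm.ne_zero,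
      hm.leadingCoeff, inv_one, map_one, mul_one]
  have hdet : M.det = 1 := by
    rw [Matrix.det_eq_sign_charpoly_coeff, hM, h0, Fintype.card_fin, ← pow_add, ← two_mul, pow_mul,
      neg_one_sq, one_pow]
  refine ⟨⟨⟨M, hdet⟩, CfsgLib.ClassicalGroups.mem_SU_iff.2 fun u v => ?_⟩, hM⟩
  have hMv : ∀ w', M *ᵥ w' = T w' := fun w' => by
    rw [← Matrix.toLin'_apply, Matrix.toLin'_toMatrix']
  rw [hMv, hMv, ← he, ← he]
  simp only [T, LinearMap.comp_apply, LinearEquiv.coe_coe, LinearEquiv.apply_symm_apply]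
  change ℓ₀ (y * ((x * e u) * σ (x * e v))) = ℓ₀ (y * (e u * σ (e v)))
  rw [map_mul σ, hσx, show x * e u * (xi * σ (e v)) = (x * xi) * (e u * σ (e v)) by ring, hxxi, one_mul]

theorem le_card_fixed_affine (hF : Fintype.card F = q ^ 2) (hτ : ∀ x, τ x = x ^ q)
    (hτ2 : ∀ x, τ (τ x) = x) {a : F} (ha : a * τ a = 1) :
    q ≤ Nat.card {x : F // x = a * τ x} := by
  classical
  let d : F →+ F := AddMonoidHom.mk' (fun x => x - a * τ x) fun x y => by rw [map_add]; ring
  have h1 := AddSubgroup.card_mul_index d.ker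
  rw [AddSubgroup.index_ker, Nat.card_eq_fintype_card (α := F), hF] at h1
  have h2 : Nat.card d.range ≤ q := by
    refine le_trans ?_ (card_fixed_affine hF hτ (-a))
    refine Nat.card_le_card_of_injective (fun z => ⟨z.1, ?_⟩)
      fun z z' h => Subtype.ext (congrArg (fun t => t.1) h)
    obtain ⟨z, hz⟩ := z
    obtain ⟨x, rfl⟩ := hz
    change x - a * τ x = -a * τ (x - a * τ x)
    rw [map_sub, map_mul, hτ2]
    linear_combination (-x) * ha
  have h3 : Nat.card {x : F // x = a * τ x} = Nat.card d.ker :=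
    Nat.card_congr (Equiv.subtypeEquivRight fun x => by
      rw [AddMonoidHom.mem_ker]; exact sub_eq_zero.symm)
  rw [h3]
  have hq := CfsgLib.ClassicalGroups.herm_two_le hF
  refine Nat.le_of_mul_le_mul_right ?_ (show 0 < q by omega)
  rw [← sq, ← h1]
  exact Nat.mul_le_mul_left _ h2

theorem pow_le_card_su_classes (hF : Fintype.card F = q ^ 2) (hτ : ∀ x, τ x = x ^ q)
    (hτne : τ ≠ RingHom.id F) (hτ2 : ∀ x, τ (τ x) = x) (hn : 2 ≤ n) :
    q ^ (n - 1) ≤ Nat.card (ConjClasses (Cfsg.SU n F q)) := by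
  classical
  let T := {f : F[X] // f ∈ polys F n ∧ conjRev τ f = f ∧ f.coeff 0 = (-1) ^ n}
  have hex : ∀ f : T, ∃ A : Cfsg.SU n F q, (A.1.1).charpoly = f.1 := fun f => by
    obtain ⟨hm, hd, -⟩ := spec_polys f.2.1
    exact exists_su_charpoly hF hτ hτne hτ2 (by omega) hm hd f.2.2.2 f.2.2.1
  choose A hA using hex
  have hinj : Function.Injective fun f => ConjClasses.mk (A f) := by
    intro f g hfg
    obtain ⟨P, hP⟩ := isConj_iff.1 (ConjClasses.mk_eq_mk_iff_isConj.1 hfg)
    apply Subtype.ext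
    rw [← hA f, ← hA g]
    have h2 := congrArg (fun M : Cfsg.SU n F q => ((SpecialLinearGroup.toGL M.1 : GL (Fin n) F) :
      Matrix (Fin n) (Fin n) F)) hP
    simp only [Subgroup.coe_mul, Subgroup.coe_inv, map_mul, map_inv, Units.val_mul,
      Matrix.coe_units_inv] at h2
    have h3 := Matrix.charpoly_units_conj (SpecialLinearGroup.toGL P.1) (A f).1.1
    exact h3.symm.trans (congrArg Matrix.charpoly h2)
  haveI : Finite T := Finite.of_injective (fun f : T => (⟨f.1, f.2.1⟩ : polys F n))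
    fun a b h => Subtype.ext (congrArg (fun z => z.1) h)
  refine le_trans ?_ (Nat.card_le_card_of_injective _ hinj)
  set a0 : F := (-1) ^ n with ha0def
  have ha0 : a0 ≠ 0 := pow_ne_zero _ (neg_ne_zero.2 one_ne_zero)
  have hτa0 : τ a0 = a0 := by rw [ha0def, map_pow, map_neg, map_one]
  have haa : a0 * τ a0 = 1 := by rw [hτa0, ha0def, ← pow_add, ← two_mul, pow_mul, neg_one_sq, one_pow]
  let m := (n - 1) / 2
  let Mid := {x : F // n % 2 = 1 ∧ x = 0 ∨ n % 2 = 0 ∧ x = a0 * τ x}
  let co : (Fin m → F) × Mid → ℕ → F := fun p i =>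
    if i = 0 then a0 else if h : i - 1 < m then p.1 ⟨i - 1, h⟩ else if 2 * i = n then p.2.1
    else if i = n then 1 else if h' : n - i - 1 < m then a0 * τ (p.1 ⟨n - i - 1, h'⟩) else 0
  let mk : (Fin m → F) × Mid → F[X] := fun p => ∑ i ∈ Finset.range (n + 1), monomial i (co p i)
  have hcoeff : ∀ p i, (mk p).coeff i = if i ≤ n then co p i else 0 := fun p i => by
    simp only [mk, finsetSum_coeff, coeff_monomial]
    rw [Finset.sum_ite_eq']
    simp
  have hn' : ∀ p, co p n = 1 := fun p => by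
    simp only [co, if_neg (show n ≠ 0 by omega), dif_neg (show ¬ n - 1 < m by omega),
      if_neg (show ¬ 2 * n = n by omega), if_true]
  have hrel : ∀ p i, i ≤ n → co p i = a0 * τ (co p (n - i)) := by
    intro p i hi
    rcases (show i = 0 ∨ i = n ∨ (i ≠ 0 ∧ i - 1 < m) ∨ (i ≠ 0 ∧ i ≠ n ∧ 2 * i = n) ∨
        (i ≠ 0 ∧ i ≠ n ∧ ¬ i - 1 < m ∧ 2 * i ≠ n ∧ n - i - 1 < m) by omega) with
      rfl | rfl | ⟨h1, h2⟩ | ⟨h1, h1', h2⟩ | ⟨h1, h1', h2, h3, h4⟩
    · rw [Nat.sub_zero, hn', map_one, mul_one]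
      simp [co]
    · rw [hn', Nat.sub_self]
      simp only [co, if_true]
      exact haa.symm
    · have e1 : co p i = p.1 ⟨i - 1, h2⟩ := by simp only [co, if_neg h1, dif_pos h2]
      have e2 : co p (n - i) = a0 * τ (p.1 ⟨i - 1, h2⟩) := by
        simp only [co, if_neg (show n - i ≠ 0 by omega), dif_neg (show ¬ n - i - 1 < m by omega),
          if_neg (show ¬ 2 * (n - i) = n by omega), if_neg (show ¬ n - i = n by omega),
          dif_pos (show n - (n - i) - 1 < m by omega)]
        exact congrArg (fun t => a0 * τ (p.1 t)) (Fin.ext (show n - (n - i) - 1 = i - 1 by omega))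
      rw [e1, e2, map_mul, hτ2, ← mul_assoc, haa, one_mul]
    · have e1 : co p i = p.2.1 := by
        simp only [co, if_neg h1, dif_neg (show ¬ i - 1 < m by omega), if_pos h2]
      rw [show n - i = i by omega, e1]
      rcases p.2.2 with h | h
      · omega
      · exact h.2
    · have e1 : co p i = a0 * τ (p.1 ⟨n - i - 1, h4⟩) := by
        simp only [co, if_neg h1, dif_neg h2, if_neg h3, if_neg h1', dif_pos h4]
      have e2 : co p (n - i) = p.1 ⟨n - i - 1, h4⟩ := by
        simp only [co, if_neg (show n - i ≠ 0 by omega), dif_pos h4]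
      rw [e1, e2]
  have hdeg : ∀ p, (mk p).natDegree = n := fun p => by
    refine le_antisymm (natDegree_le_iff_coeff_eq_zero.2 fun i hi => ?_) (le_natDegree_of_ne_zero ?_)
    · rw [hcoeff, if_neg (by omega)]
    · rw [hcoeff, if_pos le_rfl, hn']; exact one_ne_zero
  have hmon : ∀ p, (mk p).Monic := fun p => by
    rw [Monic, leadingCoeff, hdeg, hcoeff, if_pos le_rfl, hn']
  have hc0 : ∀ p, (mk p).coeff 0 = a0 := fun p => by
    rw [hcoeff, if_pos (Nat.zero_le _)]; simp [co]
  have hfix : ∀ p, conjRev τ (mk p) = mk p := fun p => by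
    ext i
    rcases Nat.lt_or_ge n i with hi | hi
    · rw [coeff_eq_zero_of_natDegree_lt (lt_of_le_of_lt (natDegree_conjRev_le _) (by rw [hdeg]; exact hi)),
        coeff_eq_zero_of_natDegree_lt (by rw [hdeg]; exact hi)]
    · rw [coeff_conjRev _ (by rw [hdeg]; exact hi), hdeg, hc0, hcoeff, if_pos (Nat.sub_le _ _), hcoeff,
        if_pos hi, hrel p i hi, hτa0]
      congr 1
      exact inv_eq_of_mul_eq_one_right (by rw [← hτa0] at haa ⊢; simpa [hτa0] using haa)
  have hMid : (if n % 2 = 1 then 1 else q) ≤ Nat.card Mid := by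
    split_ifs with h
    · haveI : Nonempty Mid := ⟨⟨0, Or.inl ⟨h, rfl⟩⟩⟩
      exact Nat.one_le_iff_ne_zero.2 (Nat.card_ne_zero.2 ⟨inferInstance, inferInstance⟩)
    · refine (le_card_fixed_affine hF hτ hτ2 haa).trans (le_of_eq (Nat.card_congr
        (Equiv.subtypeEquivRight fun x => ?_)))
      simp [h, show n % 2 = 0 by omega]
  refine le_trans ?_ (Nat.card_le_card_of_injective (fun p => (⟨mk p, mem_polys (hmon p) (hdeg p)
    (by rw [hc0]; exact ha0), hfix p, hc0 p⟩ : T)) ?_)
  · rw [Nat.card_prod, Nat.card_fun, Nat.card_fin, Nat.card_eq_fintype_card (α := F), hF, ← pow_mul]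
    refine le_trans ?_ (Nat.mul_le_mul_left _ hMid)
    split_ifs with h
    · rw [mul_one, show 2 * m = n - 1 by omega]
    · rw [← pow_succ, show 2 * m + 1 = n - 1 by omega]
  · intro p p' hpp
    have hc : ∀ i, i ≤ n → co p i = co p' i := fun i hi => by
      have := congrArg (fun t : T => t.1.coeff i) hpp
      simpa [hcoeff, hi] using this
    refine Prod.ext (funext fun j => ?_) (Subtype.ext ?_)
    · have hj := j.2
      have := hc ((j : ℕ) + 1) (by omega)
      simpa [co, show (j : ℕ) + 1 - 1 < m by omega] using this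
    · rcases Nat.mod_two_eq_zero_or_one n with h | h
      · have := hc (n / 2) (by omega)
        simpa [co, show n / 2 ≠ 0 by omega, show ¬ n / 2 - 1 < m by omega,
          show 2 * (n / 2) = n by omega] using this
      · rcases p.2.2 with h1 | h1
        · rcases p'.2.2 with h2 | h2
          · rw [h1.2, h2.2]
          · omega
        · omega

end CfsgLib.SpecUnitary
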