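import Cfsg.Agent.Lib.SemisimpleClass.UnitarySpectrum

/-!
Element orders of `PSU_n(q)` read off from the multiset of eigenvalues: twisting a splitting of the
eigenvalues by two norm one scalars makes an element extendable by a prime dividing `q + 1`.
-/

set_option autoImplicit false
set_option linter.unusedSectionVars false

namespace CfsgLib.PSUTwist

open Polynomial Matrix CfsgLib.SemisimpleClass CfsgLib.CharBound.SUn

/-- `x ↦ x^(-q)` -/
def tau {K : Type*} [Field K] (q : ℕ) (x : K) : K := (x ^ q)⁻¹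

/-- The orbit segment of length `D` of `x`. -/
noncomputable def orb {K : Type*} [Field K] (q : ℕ) (x : K) (D : ℕ) : Multiset K :=
  (Multiset.range D).map fun i => (tau q)^[i] x

/-- `|(q^D - (-1)^D)/(q+1)|` -/
def torusN (q D : ℕ) : ℕ := (∑ i ∈ Finset.range D, (-(q : ℤ)) ^ i).natAbs

theorem torusN_one (q : ℕ) : torusN q 1 = 1 := by simp [torusN]

theorem gcd_dvd_torusN (q n : ℕ) : Nat.gcd n (q + 1) ∣ torusN q n := by
  set δ := Nat.gcd n (q + 1)
  have hq : ((q : ℕ) : ZMod δ) + 1 = 0 := by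
    rw [← Nat.cast_one, ← Nat.cast_add, ZMod.natCast_eq_zero_iff]
    exact Nat.gcd_dvd_right _ _
  have h : (((∑ i ∈ Finset.range n, (-(q : ℤ)) ^ i : ℤ)) : ZMod δ) = 0 := by
    push_cast
    rw [show -(q : ZMod δ) = 1 from neg_eq_iff_add_eq_zero.2 hq]
    simpa [ZMod.natCast_eq_zero_iff] using Nat.gcd_dvd_left n (q + 1)
  exact Int.natCast_dvd.1 ((ZMod.intCast_zmod_eq_zero_iff_dvd _ _).1 h)

theorem torusN_mul (q D : ℕ) :
    ((-(q : ℤ)) ^ D - 1).natAbs = torusN q D * (q + 1) := by
  rw [← geom_sum_mul, Int.natAbs_mul, torusN]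
  congr 1
  omega

theorem not_dvd_torusN {p q D : ℕ} (hp : p.Prime) (hpq : p ∣ q) (hD : 1 ≤ D) : ¬ p ∣ torusN q D := by
  intro h
  have h1 : p ∣ ((-(q : ℤ)) ^ D - 1).natAbs := torusN_mul q D ▸ h.mul_right _
  rw [← Int.natCast_dvd] at h1
  have h2 : (p : ℤ) ∣ (-(q : ℤ)) ^ D :=
    dvd_pow (dvd_neg.2 (Int.natCast_dvd_natCast.2 hpq)) (by omega)
  have h3 : (p : ℤ) ∣ 1 := by simpa using dvd_sub h2 h1
  exact hp.not_dvd_one (Int.natCast_dvd_natCast.1 (by exact_mod_cast h3))

section General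

variable {K : Type*} [Field K] {q : ℕ}

theorem tau_pow (x : K) (k : ℕ) : tau q x ^ k = tau q (x ^ k) := by
  rw [tau, tau, inv_pow, ← pow_mul, ← pow_mul, mul_comm]

theorem tau_mul (x y : K) : tau q (x * y) = tau q x * tau q y := by
  simp [tau, mul_pow, mul_comm]

theorem tau_eq_self_of_pow {a : K} (ha : a ^ (q + 1) = 1) : tau q a = a := by
  rw [tau]
  exact inv_eq_of_mul_eq_one_right (by rw [← pow_succ, ha])

theorem pow_eq_one_of_tau {a : K} (ha0 : a ≠ 0) (ha : tau q a = a) : a ^ (q + 1) = 1 := by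
  rw [pow_succ]
  nth_rw 2 [← ha]
  exact mul_inv_cancel₀ (pow_ne_zero _ ha0)

theorem iterate_tau_pow (x : K) (k i : ℕ) : ((tau q)^[i] x) ^ k = (tau q)^[i] (x ^ k) := by
  induction i with
  | zero => rfl
  | succ i ih => rw [Function.iterate_succ_apply', Function.iterate_succ_apply', tau_pow, ih]

theorem iterate_tau_eq (x : K) (i : ℕ) : (tau q)^[i] x = x ^ ((-(q : ℤ)) ^ i) := by
  induction i with
  | zero => simp
  | succ i ih =>
    rw [Function.iterate_succ_apply', ih, tau, pow_succ, _root_.zpow_mul, _root_.zpow_neg, zpow_natCast]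

theorem zpow_eq_one_iff_natAbs (x : K) (z : ℤ) : x ^ z = 1 ↔ x ^ z.natAbs = 1 := by
  rcases Int.natAbs_eq z with h | h
  · conv_lhs => rw [h, zpow_natCast]
  · conv_lhs => rw [h, _root_.zpow_neg, zpow_natCast, inv_eq_one]

theorem periodic_iff {x : K} (hx : x ≠ 0) (D : ℕ) :
    (tau q)^[D] x = x ↔ x ^ (torusN q D * (q + 1)) = 1 := by
  rw [iterate_tau_eq, ← torusN_mul, ← zpow_eq_one_iff_natAbs, zpow_sub₀ hx, zpow_one, div_eq_one_iff_eq hx]

theorem orb_card (x : K) (D : ℕ) : (orb q x D).card = D := by simp [orb]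

theorem mem_orb {x y : K} {D : ℕ} : y ∈ orb q x D ↔ ∃ i < D, (tau q)^[i] x = y := by simp [orb]

theorem orb_closed {x : K} {D : ℕ} (h : (tau q)^[D] x = x) : (orb q x D).map (tau q) = orb q x D := by
  have key : ∀ (f : ℕ → K) (D : ℕ), f 0 ::ₘ (Multiset.range D).map (fun i => f (i + 1)) =
      (Multiset.range (D + 1)).map f := fun f D => by
    induction D with
    | zero => simp
    | succ D ih => rw [Multiset.range_succ, Multiset.map_cons, Multiset.cons_swap, ih, Multiset.range_succ (D + 1),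
        Multiset.map_cons]
  have h1 := key (fun i => (tau q)^[i] x) D
  simp only [Multiset.range_succ, Multiset.map_cons, h] at h1
  simp only [Function.iterate_zero, id_eq] at h1
  rw [orb, Multiset.map_map]
  refine ((Multiset.cons_inj_right x).1 ?_)
  conv_rhs => rw [← h1]
  congr 1
  refine Multiset.map_congr rfl fun i _ => ?_
  simp [Function.iterate_succ_apply']

theorem orb_prod {x : K} (hx : x ≠ 0) (D : ℕ) :
    (orb q x D).prod = x ^ (∑ i ∈ Finset.range D, (-(q : ℤ)) ^ i) := by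
  induction D with
  | zero => simp [orb]
  | succ D ih =>
    rw [orb, Multiset.range_succ, Multiset.map_cons, Multiset.prod_cons, Finset.sum_range_succ,
      zpow_add₀ hx, ← ih, iterate_tau_eq, mul_comm]
    rfl

theorem closed_add {A B : Multiset K} (hA : A.map (tau q) = A) (hB : B.map (tau q) = B) :
    (A + B).map (tau q) = A + B := by rw [Multiset.map_add, hA, hB]

theorem closed_scale {A : Multiset K} (hA : A.map (tau q) = A) {a : K} (ha : a ^ (q + 1) = 1) :
    (A.map fun x => x * a).map (tau q) = A.map fun x => x * a := by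
  conv_rhs => rw [← hA]
  rw [Multiset.map_map, Multiset.map_map]
  exact Multiset.map_congr rfl fun x _ => by
    simp [tau_mul, tau_eq_self_of_pow ha]

theorem prod_scale (A : Multiset K) (a : K) : (A.map fun x => x * a).prod = A.prod * a ^ A.card := by
  rw [Multiset.prod_map_mul]; simp

theorem closed_one (k : ℕ) : (Multiset.replicate k (1 : K)).map (tau q) = Multiset.replicate k 1 := by
  rw [Multiset.map_replicate, tau, one_pow, inv_one]

theorem roots_card_mul_pow (p : ℕ) [Fact p.Prime] [CharP K p] (x : K) (T v : ℕ) :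
    ((X ^ (T * p ^ v) - C (x ^ (T * p ^ v)) : K[X])).roots = p ^ v • (X ^ T - C (x ^ T) : K[X]).roots := by
  rw [← roots_pow, sub_pow_char_pow, ← pow_mul, ← C_pow, ← pow_mul]

theorem le_count_roots [DecidableEq K] (p : ℕ) [Fact p.Prime] [CharP K p] (x : K) {T : ℕ} (hT : 0 < T) (v : ℕ) :
    p ^ v ≤ (X ^ (T * p ^ v) - C (x ^ (T * p ^ v)) : K[X]).roots.count x := by
  rw [roots_card_mul_pow p, Multiset.count_nsmul]
  refine Nat.le_mul_of_pos_right _ (Multiset.count_pos.2 ?_)
  rw [mem_roots (X_pow_sub_C_ne_zero hT _)]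
  simp

theorem count_roots_le [DecidableEq K] (p : ℕ) [hp : Fact p.Prime] [CharP K p] {x : K} (hx : x ≠ 0) {T : ℕ}
    (hT : ¬ p ∣ T) (v : ℕ) :
    (X ^ (T * p ^ v) - C (x ^ (T * p ^ v)) : K[X]).roots.count x ≤ p ^ v := by
  rw [roots_card_mul_pow p, Multiset.count_nsmul]
  conv_rhs => rw [← mul_one (p ^ v)]
  refine Nat.mul_le_mul_left _ (Multiset.nodup_iff_count_le_one.1 (nodup_roots ?_) x)
  exact separable_X_pow_sub_C _ (fun h => hT ((CharP.cast_eq_zero_iff K p T).1 h)) (pow_ne_zero _ hx)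

theorem reverse_prod_X_sub_C {T : Multiset K} (hT : ∀ x ∈ T, x ≠ 0) :
    ((T.map fun x => X - C x).prod).reverse =
      C ((-1) ^ T.card * T.prod) * ((T.map fun x => x⁻¹).map fun x => X - C x).prod := by
  induction T using Multiset.induction with
  | empty => simp only [Multiset.map_zero, Multiset.prod_zero, Multiset.card_zero, pow_zero, one_mul, C_1]; rw [← C_1, reverse_C]
  | cons a T ih =>
    have ha : a ≠ 0 := hT a (Multiset.mem_cons_self _ _)
    simp only [Multiset.map_cons, Multiset.prod_cons, Multiset.card_cons]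
    rw [reverse_mul_of_domain, ih fun x hx => hT x (Multiset.mem_cons_of_mem hx)]
    have hr : (X - C a : K[X]).reverse = C (-a) * (X - C a⁻¹) := by
      rw [reverse, natDegree_X_sub_C, reflect_sub, reflect_C, mul_sub, ← C_mul, neg_mul, mul_inv_cancel₀ ha,
        show (X : K[X]) = C 1 * X ^ 1 by rw [C_1, one_mul, pow_one], reflect_C_mul_X_pow, revAt_le le_rfl]
      simp
      ring
    rw [hr, show (-1 : K) ^ (T.card + 1) * (a * T.prod) = (-a) * ((-1) ^ T.card * T.prod) by ring, C_mul,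
      C_mul, C_mul]
    ring

end General

section Unitary

variable {F : Type*} [Field F] [Fintype F] {n q : ℕ} (hF : Fintype.card F = q ^ 2)
  (p : ℕ) [Fact p.Prime] [CharP F p]
include hF p

local notation "KK" => AlgebraicClosure F
local notation "SUq" => Cfsg.SU n F q
local notation "PSUq" => Cfsg.PSU n F q
local notation "ι" => algebraMap F (AlgebraicClosure F)

theorem tau_injective : Function.Injective (tau q : KK → KK) := by
  obtain ⟨e, -, hqe⟩ := CfsgLib.PSU3Spectrum.exists_exp hF p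
  have : CharP KK p := charP_of_injective_algebraMap' F p
  intro x y h
  have h' := inv_injective h
  exact (iterateFrobenius KK p e).injective (by rwa [iterateFrobenius_def, iterateFrobenius_def, ← hqe])

theorem exists_isURec {S : Multiset KK} (hcard : S.card = n) (hcl : S.map (tau q) = S) (hprod : S.prod = 1) :
    ∃ f : F[X], IsURec hF n f ∧ f.map ι = (S.map fun x => X - C x).prod := by
  obtain ⟨e, -, hqe⟩ := CfsgLib.PSU3Spectrum.exists_exp hF p
  have : CharP KK p := charP_of_injective_algebraMap' F p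
  let φ : KK →+* KK := iterateFrobenius KK p e
  have hφ : ∀ x, φ x = x ^ q := fun x => by rw [hqe]; rfl
  set f0 := (S.map fun x => X - C x).prod with hf0
  have hmapφ : ∀ T : Multiset KK, ((T.map fun x => X - C x).prod).map φ =
      ((T.map fun x => x ^ q).map fun x => X - C x).prod := fun T => by
    rw [Polynomial.map_multiset_prod, Multiset.map_map, Multiset.map_map]
    exact congrArg Multiset.prod (Multiset.map_congr rfl fun x _ => by simp [hφ])
  have hSq : S.map (fun x => x ^ q) = S.map fun x => x⁻¹ := by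
    conv_rhs => rw [← hcl]
    rw [Multiset.map_map]
    exact Multiset.map_congr rfl fun x _ => by simp [tau]
  have h1 : f0.map φ = ((S.map fun x => x⁻¹).map fun x => X - C x).prod := by rw [hf0, hmapφ, hSq]
  have h2 : (f0.map φ).map φ = f0 := by
    rw [h1, hmapφ, hf0]
    refine congrArg (fun T : Multiset KK => (T.map fun x => X - C x).prod) ?_
    conv_rhs => rw [← hcl]
    rw [Multiset.map_map]
    exact Multiset.map_congr rfl fun x _ => by simp [tau, inv_pow]
  have hlift : f0 ∈ Polynomial.lifts ι := by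
    rw [lifts_iff_coeff_lifts]
    intro k
    have h := congrArg (fun P : (KK)[X] => P.coeff k) h2
    simp only [coeff_map, hφ] at h
    rw [← pow_mul, ← pow_two] at h
    exact CfsgLib.PSU3Spectrum.mem_range_of_pow_eq hF h
  have hm0 : f0.Monic := monic_multiset_prod_of_monic _ _ fun x _ => monic_X_sub_C x
  have hd0 : f0.natDegree = n := by rw [hf0, natDegree_multiset_prod_X_sub_C_eq_card, hcard]
  obtain ⟨f, hf, hfd, hfm⟩ := lifts_and_natDegree_eq_and_monic hlift hm0
  refine ⟨f, ⟨hfm, hfd.trans hd0, fun k hk => ?_⟩, hf⟩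
  have hS0 : ∀ x ∈ S, x ≠ 0 := fun x hx h => zero_ne_one
    (show (0 : KK) = 1 by rw [← hprod, Multiset.prod_eq_zero (h ▸ hx)])
  have hr := reverse_prod_X_sub_C hS0
  rw [hprod, mul_one, hcard, ← hf0, ← h1] at hr
  have h3 := congrArg (fun P : (KK)[X] => P.coeff k) hr
  simp only [coeff_reverse, hd0, revAt_le hk, coeff_C_mul, coeff_map, hφ] at h3
  apply (ι).injective
  rw [(conj hF).hσ, map_pow, map_mul, map_pow, map_neg, map_one, ← coeff_map, ← coeff_map, hf, h3,
    ← mul_assoc, ← pow_add, ← two_mul, pow_mul]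
  simp

theorem mk_eq_one_iff (g : ↥(SUq)) :
    (QuotientGroup.mk g : PSUq) = 1 ↔ ∃ k : F, g.1.1 = algebraMap F (Matrix (Fin n) (Fin n) F) k := by
  rw [QuotientGroup.eq_one_iff]
  constructor
  · intro h
    have hs := CfsgLib.ClassicalGroups.center_SU_scalar hF (⟨g, h⟩ : Subgroup.center (SUq))
    rcases isEmpty_or_nonempty (Fin n) with he | ⟨⟨j⟩⟩
    · exact ⟨0, Subsingleton.elim _ _⟩
    refine ⟨g.1.1 j j, ?_⟩
    ext r s
    rw [Matrix.algebraMap_matrix_apply]
    rcases eq_or_ne r s with rfl | hrs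
    · rw [if_pos rfl]; exact (hs r j).2
    · rw [if_neg hrs]; exact (hs r s).1 hrs
  · rintro ⟨k, hk⟩
    rw [Subgroup.mem_center_iff]
    intro h
    refine Subtype.ext (Subtype.ext ?_)
    show h.1.1 * g.1.1 = g.1.1 * h.1.1
    rw [hk]
    exact (Algebra.commutes k h.1.1).symm

theorem pow_mk_eq_one_iff (g : ↥(SUq)) (N : ℕ) :
    (QuotientGroup.mk g : PSUq) ^ N = 1 ↔ ∃ k : F, g.1.1 ^ N = algebraMap F (Matrix (Fin n) (Fin n) F) k := by
  rw [← QuotientGroup.mk_pow, mk_eq_one_iff hF p]
  simp [SubmonoidClass.coe_pow, Matrix.SpecialLinearGroup.coe_pow]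

/-- The eigenvalues of an element of `SU_n`. -/
theorem eigen_spec (g : ↥(SUq)) :
    (g.1.1.charpoly.map ι).roots.card = n ∧
    (g.1.1.charpoly.map ι).roots.map (tau q) = (g.1.1.charpoly.map ι).roots ∧
    (g.1.1.charpoly.map ι).roots.prod = 1 := by
  obtain ⟨e, -, hqe⟩ := CfsgLib.PSU3Spectrum.exists_exp hF p
  have : CharP KK p := charP_of_injective_algebraMap' F p
  let φ : KK →+* KK := iterateFrobenius KK p e
  have hφ : ∀ x, φ x = x ^ q := fun x => by rw [hqe]; rfl
  obtain ⟨hfm, hfn, hfc⟩ := isURec_charpoly hF g.1.1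
    ((mem_GU_adjM hF).mp (CfsgLib.ClassicalGroups.mem_SU_iff_toGL.mp g.2)) g.1.2
  set f := g.1.1.charpoly
  set f0 := f.map ι with hf0
  set S := f0.roots
  have hsp : f0.Splits := IsAlgClosed.splits f0
  have hm0 : f0.Monic := hfm.map _
  have hcard : S.card = n := by
    rw [← hfn, ← natDegree_map_eq_of_injective (ι).injective f]
    exact hsp.natDegree_eq_card_roots.symm
  have hprod : S.prod = 1 := by
    have h1 := coeff_zero_of_isURec hF ⟨hfm, hfn, hfc⟩
    have h2 := hsp.coeff_zero_eq_prod_roots_of_monic hm0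
    rw [hf0, coeff_map, natDegree_map_eq_of_injective (ι).injective, hfn] at h2
    have h3 := congrArg ι h1
    rw [map_mul, map_pow, map_neg, map_one, h2, ← mul_assoc, ← pow_add, ← two_mul, pow_mul] at h3
    simpa using h3
  refine ⟨hcard, ?_, hprod⟩
  have hS0 : ∀ x ∈ S, x ≠ 0 := fun x hx h => zero_ne_one
    (show (0 : KK) = 1 by rw [← hprod, Multiset.prod_eq_zero (h ▸ hx)])
  have hfac : f0 = (S.map fun x => X - C x).prod := hsp.eq_prod_roots_of_monic hm0
  have hmap : f0.map φ = C ((-1 : KK) ^ n) * f0.reverse := by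
    ext k
    have hdeg : f0.natDegree = n := by rw [hf0, natDegree_map_eq_of_injective (ι).injective, hfn]
    rw [coeff_map, hφ, coeff_C_mul, coeff_reverse, hdeg, hf0, coeff_map, coeff_map, ← map_pow,
      ← (conj hF).hσ]
    by_cases hk : k ≤ n
    · rw [revAt_le hk, hfc k hk, map_mul, map_pow, map_neg, map_one]
    · rw [revAt_eq_self_of_lt (by omega), coeff_eq_zero_of_natDegree_lt (by omega), map_zero, map_zero,
        mul_zero]
  have hl : (f0.map φ).roots = S.map fun x => x ^ q := by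
    rw [(hsp.roots_map φ), ]
    exact Multiset.map_congr rfl fun x _ => hφ x
  have hr : (f0.reverse).roots = S.map fun x => x⁻¹ := by
    rw [hfac, reverse_prod_X_sub_C hS0, roots_C_mul _ (by simp [hprod]), roots_multiset_prod_X_sub_C]
  rw [hmap, roots_C_mul _ (pow_ne_zero _ (neg_ne_zero.2 one_ne_zero)), hr] at hl
  have h := congrArg (Multiset.map fun x : KK => x⁻¹) hl
  rw [Multiset.map_map, Multiset.map_map] at h
  simp only [Function.comp_def, inv_inv, Multiset.map_id'] at h
  exact h.symm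

theorem eigen_pow_eq [NeZero n] {g : ↥(SUq)} {N : ℕ} {k : F} (h : g.1.1 ^ N = algebraMap F _ k) {x : KK}
    (hx : x ∈ (g.1.1.charpoly.map ι).roots) : x ^ N = ι k := by
  rw [mem_roots ((Matrix.charpoly_monic _).map _).ne_zero, ← Matrix.charpoly_map,
    ← Matrix.mem_spectrum_iff_isRoot_charpoly] at hx
  have h1 := spectrum.pow_mem_pow (g.1.1.map ι) N hx
  have h2 : (g.1.1.map ι) ^ N = algebraMap KK _ (ι k) := by
    rw [show (g.1.1.map ι) ^ N = (g.1.1 ^ N).map ι from (map_pow (ι).mapMatrix g.1.1 N).symm, h]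
    ext r s
    rw [Matrix.map_apply, Matrix.algebraMap_matrix_apply, Matrix.algebraMap_matrix_apply]
    split_ifs <;> simp
  rw [h2, spectrum.scalar_eq, Set.mem_singleton_iff] at h1
  exact h1

open scoped Classical in
/-- An order bound from the eigenvalues. -/
theorem orderOf_mk_dvd (g : ↥(SUq)) {T v : ℕ} (hT : 0 < T) {s : KK}
    (hx : ∀ x ∈ (g.1.1.charpoly.map ι).roots, x ^ (T * p ^ v) = s ∧
      (g.1.1.charpoly.map ι).roots.count x ≤ p ^ v) :
    orderOf (QuotientGroup.mk g : PSUq) ∣ T * p ^ v := by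
  have : CharP KK p := charP_of_injective_algebraMap' F p
  set S := (g.1.1.charpoly.map ι).roots
  set N := T * p ^ v
  have hN : 0 < N := Nat.mul_pos hT (pow_pos (Fact.out : p.Prime).pos v)
  have hne : (X ^ N - C s : (KK)[X]) ≠ 0 := X_pow_sub_C_ne_zero hN s
  have hdvd : g.1.1.charpoly.map ι ∣ X ^ N - C s := by
    rw [(IsAlgClosed.splits (g.1.1.charpoly.map ι)).eq_prod_roots_of_monic ((Matrix.charpoly_monic _).map _),
      Multiset.prod_X_sub_C_dvd_iff_le_roots hne, Multiset.le_iff_count]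
    intro x
    by_cases hxS : x ∈ S
    · obtain ⟨h1, h2⟩ := hx x hxS
      exact h2.trans (h1 ▸ le_count_roots p x hT v)
    · simp [Multiset.count_eq_zero_of_notMem hxS, S]
  obtain ⟨Q, hQ⟩ := hdvd
  have h := congrArg (Polynomial.aeval (g.1.1.map ι)) hQ
  rw [map_mul, ← Matrix.charpoly_map, Matrix.aeval_self_charpoly, zero_mul, map_sub, map_pow, aeval_X,
    aeval_C, sub_eq_zero] at h
  apply orderOf_dvd_of_pow_eq_one
  rw [pow_mk_eq_one_iff hF p]
  rcases isEmpty_or_nonempty (Fin n) with he | ⟨⟨j⟩⟩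
  · exact ⟨0, Subsingleton.elim _ _⟩
  refine ⟨(g.1.1 ^ N) j j, ?_⟩
  have h' : ∀ r t, ι ((g.1.1 ^ N) r t) = if r = t then s else 0 := fun r t => by
    have := congrFun (congrFun h r) t
    rw [show (g.1.1.map ι) ^ N = (g.1.1 ^ N).map ι from (map_pow (ι).mapMatrix g.1.1 N).symm,
      Matrix.map_apply, Matrix.algebraMap_matrix_apply] at this
    exact this
  ext r t
  apply (ι).injective
  rw [h', Matrix.algebraMap_matrix_apply]
  split_ifs <;> simp [h']

open scoped Classical in
/-- A cyclic element with prescribed eigenvalues: what its order says. -/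
theorem exists_elem (hn : 1 ≤ n) {S : Multiset KK} (hcard : S.card = n) (hcl : S.map (tau q) = S)
    (hprod : S.prod = 1) :
    ∃ (g : PSUq) (v : ℕ) (s : KK), p ^ v ∣ orderOf g ∧ s ^ n = 1 ∧ s ^ (q + 1) = 1 ∧
      ∀ x ∈ S, x ^ orderOf g = s ∧ S.count x ≤ p ^ v := by
  have : CharP KK p := charP_of_injective_algebraMap' F p
  obtain ⟨f, hrec, hfmap⟩ := exists_isURec hF p hcard hcl hprod
  obtain ⟨M, hM, hdet, -, hmin⟩ := exists_cyclic_elem_of_isURec hF hrec hn
  let g₀ : Matrix.SpecialLinearGroup (Fin n) F := ⟨M, hdet⟩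
  have hmem : g₀ ∈ SUq := by
    rw [CfsgLib.ClassicalGroups.mem_SU_iff_toGL, mem_GU_adjM hF]
    exact hM
  let g : PSUq := QuotientGroup.mk (⟨g₀, hmem⟩ : ↥(SUq))
  have ho : 0 < orderOf g := orderOf_pos g
  obtain ⟨k, hk⟩ := (pow_mk_eq_one_iff hF p _ _).1 (pow_orderOf_eq_one g)
  replace hk : M ^ orderOf g = algebraMap F _ k := hk
  obtain ⟨v, o', ho', hov⟩ := Nat.exists_eq_pow_mul_and_not_dvd ho.ne' p (Fact.out : p.Prime).one_lt.ne'
  have hS0 : ∀ x ∈ S, x ≠ 0 := fun x hx h => zero_ne_one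
    (show (0 : KK) = 1 by rw [← hprod, Multiset.prod_eq_zero (h ▸ hx)])
  have hle : S ≤ (X ^ orderOf g - C (ι k) : (KK)[X]).roots := by
    rw [← Multiset.prod_X_sub_C_dvd_iff_le_roots (X_pow_sub_C_ne_zero ho _), ← hfmap]
    have := Polynomial.map_dvd ι (hmin (X ^ orderOf g - C k) (by
      rw [map_sub, map_pow, aeval_X, aeval_C, hk, sub_self]))
    simpa using this
  have hroot : ∀ x ∈ S, x ^ orderOf g = ι k := fun x hx => by
    have h := (mem_roots (X_pow_sub_C_ne_zero ho _)).1 (Multiset.mem_of_le hle hx)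
    simpa [sub_eq_zero] using h
  refine ⟨g, v, ι k, hov ▸ dvd_mul_right _ _, ?_, ?_, fun x hx => ⟨hroot x hx, ?_⟩⟩
  · have h := congrArg Matrix.det hk
    rw [Matrix.det_pow, hdet, one_pow, Matrix.algebraMap_eq_diagonal, Matrix.det_diagonal] at h
    simp only [Pi.algebraMap_apply, Algebra.algebraMap_self, RingHom.id_apply, Finset.prod_const,
      Finset.card_univ, Fintype.card_fin] at h
    rw [← map_pow, ← h, map_one]
  · obtain ⟨x, hx⟩ := Multiset.card_pos_iff_exists_mem.1 (hcard ▸ hn)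
    have hτx : tau q x ∈ S := hcl ▸ Multiset.mem_map_of_mem _ hx
    refine pow_eq_one_of_tau (hroot x hx ▸ pow_ne_zero _ (hS0 x hx)) ?_
    have := hroot _ hτx
    rwa [tau_pow, hroot x hx] at this
  · refine (Multiset.le_iff_count.1 hle x).trans ?_
    rw [← hroot x hx, hov, mul_comm (p ^ v) o']
    exact count_roots_le p (hS0 x hx) ho' v

end Unitary

end CfsgLib.PSUTwist
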